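import Cfsg.Agent.Lib.SympExtraFour.Frame
import Cfsg.Agent.Lib.LinGroup.SympSimple
import Cfsg.Agent.Lib.Classical.Symplectic

/-!
The normaliser in `Sp₄(p)` of a group of order 32 and minus type is maximal.
-/

set_option autoImplicit false
set_option linter.unusedSectionVars false

namespace Cfsg.Agent.Lib.SympExtraFour

open Cfsg Cfsg.Geo Matrix
open Cfsg.Agent.Lib.Orth Cfsg.Agent.Lib.OrthFrame
open scoped commutatorElement

variable {F : Type*} [Field F]

local notation "ι₄" => (Fin 2 ⊕ Fin 2)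
local notation "M₄" => Matrix (Fin 2 ⊕ Fin 2) (Fin 2 ⊕ Fin 2) F
local notation "𝐉" => Matrix.J (Fin 2) F

/-- A normal subgroup of `Sp` outside the centre is everything. -/
theorem normal_eq_top [Fintype F] {m : ℕ} (hm : 2 ≤ m) (h3 : m = 2 → 3 ≤ Fintype.card F)
    (N : Subgroup (Matrix.symplecticGroup (Fin m) F)) [N.Normal]
    (hN : ¬ N ≤ Subgroup.center (Matrix.symplecticGroup (Fin m) F)) : N = ⊤ := by
  haveI := LinGroup.isSimpleGroup_PSp (F := F) hm h3
  have hperf : commutator (Matrix.symplecticGroup (Fin m) F) = ⊤ :=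
    LinGroup.commutator_symplectic_eq_top (by
      rcases eq_or_lt_of_le hm with e | e
      · exact Or.inr (Or.inl ⟨e.symm, h3 e.symm⟩)
      · exact Or.inl e)
  set π := QuotientGroup.mk' (Subgroup.center (Matrix.symplecticGroup (Fin m) F)) with hπ
  haveI : (N.map π).Normal := Subgroup.Normal.map inferInstance π (QuotientGroup.mk'_surjective _)
  rcases Subgroup.Normal.eq_bot_or_eq_top (H := N.map π) inferInstance with h | h
  · exfalso
    apply hN
    rw [Subgroup.map_eq_bot_iff, hπ, QuotientGroup.ker_mk'] at h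
    exact h
  · rw [eq_top_iff, ← hperf, commutator_eq_closure, Subgroup.closure_le]
    rintro _ ⟨a, b, rfl⟩
    have hdec : ∀ a, ∃ n ∈ N, n⁻¹ * a ∈ Subgroup.center (Matrix.symplecticGroup (Fin m) F) := by
      intro a
      obtain ⟨n, hn, e⟩ := (h ▸ Subgroup.mem_top (π a) : π a ∈ N.map π)
      exact ⟨n, hn, QuotientGroup.eq.mp e⟩
    obtain ⟨n, hn, hz⟩ := hdec a
    -- a commutator is unchanged by central factors on the left argument
    have e : ⁅a, b⁆ = n * (b * n⁻¹ * b⁻¹) := by
      have hc := Subgroup.mem_center_iff.mp hz b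
      obtain ⟨z, rfl⟩ : ∃ z, a = n * z := ⟨n⁻¹ * a, by rw [mul_inv_cancel_left]⟩
      rw [inv_mul_cancel_left] at hc
      calc ⁅n * z, b⁆ = n * (z * b) * z⁻¹ * n⁻¹ * b⁻¹ := by rw [commutatorElement_def]; group
        _ = n * (b * n⁻¹ * b⁻¹) := by rw [← hc]; group
    rw [e]
    exact mul_mem hn (Subgroup.Normal.conj_mem inferInstance _ (inv_mem hn) b)

namespace Frame5

variable {R : Subgroup (GL ι₄ F)} {e : Fin 5 → GL ι₄ F} (he : Frame5 R e)
include he

/-- Lift of a three-cycle. -/
theorem exists_cycle {a b c : Fin 5} (hab : a ≠ b) (hac : a ≠ c) (hbc : b ≠ c) :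
    ∃ t : spGL 2 F, he.rho t = pG (Equiv.swap a b * Equiv.swap b c) ∧
      (t : GL ι₄ F) ∈ subgroupNormalizer R := by
  set A := (e a : M₄) with hA
  set B := (e b : M₄) with hB
  set C := (e c : M₄) with hC
  set s : M₄ := A * B + B * C + C * A with hs
  have cross : ∀ x y z : M₄, y * x = -(x * y) → z * x = -(x * z) → z * y = -(y * z) → y * y = 1 →
      x * y * (y * z) + y * z * (x * y) = 0 := by
    intro x y z h1 h2 h3 h4
    have e1 : x * y * (y * z) = x * z := by rw [mul_assoc, ← mul_assoc y, h4, one_mul]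
    have e2 : y * z * (x * y) = -(x * z) := by
      calc y * z * (x * y) = y * (z * x) * y := by simp only [mul_assoc]
        _ = -((y * x) * (z * y)) := by rw [h2]; simp only [mul_neg, neg_mul, mul_assoc]
        _ = -(x * y * (y * z)) := by rw [h1, h3]; simp
        _ = -(x * z) := by rw [e1]
    rw [e1, e2, add_neg_cancel]
  have hBA : B * A = -(A * B) := he.anti_val hab.symm
  have hCA : C * A = -(A * C) := he.anti_val hac.symm
  have hCB : C * B = -(B * C) := he.anti_val hbc.symm
  have hAC : A * C = -(C * A) := he.anti_val hac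
  have hAA : A * A = 1 := he.sq_val a
  have hBB : B * B = 1 := he.sq_val b
  have hCC : C * C = 1 := he.sq_val c
  have hsq : ∀ x y : M₄, y * x = -(x * y) → x * x = 1 → y * y = 1 → x * y * (x * y) = -1 := by
    intro x y h1 h2 h3
    calc x * y * (x * y) = x * (y * x) * y := by simp only [mul_assoc]
      _ = -(x * x * (y * y)) := by rw [h1]; simp only [mul_neg, neg_mul, mul_assoc]
      _ = -1 := by rw [h2, h3, one_mul]
  have hAB' : A * B = -(B * A) := he.anti_val hab
  have hBC' : B * C = -(C * B) := he.anti_val hbc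
  have hss : s * s = -3 := by
    have e1 := cross A B C hBA hCA hCB hBB
    have e2 := cross B C A hCB hAB' hAC hCC
    have e3 := cross C A B hAC hBC' hBA hAA
    have q1 := hsq A B hBA hAA hBB
    have q2 := hsq B C hCB hBB hCC
    have q3 := hsq C A hAC hCC hAA
    calc s * s = A * B * (A * B) + B * C * (B * C) + C * A * (C * A) +
          (A * B * (B * C) + B * C * (A * B)) + (B * C * (C * A) + C * A * (B * C)) +
          (C * A * (A * B) + A * B * (C * A)) := by rw [hs]; noncomm_ring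
      _ = -3 := by rw [e1, e2, e3, q1, q2, q3]; norm_num
  have hprod : ∀ x y : Fin 5, x ≠ y → ((e x : M₄) * (e y : M₄))ᵀ * 𝐉 = -(𝐉 * ((e x : M₄) * (e y : M₄))) := by
    intro x y h
    have hx : (e x : M₄)ᵀ * 𝐉 = 𝐉 * (e x : M₄) := he.sa x
    have hy : (e y : M₄)ᵀ * 𝐉 = 𝐉 * (e y : M₄) := he.sa y
    rw [Matrix.transpose_mul, Matrix.mul_assoc, hx, ← Matrix.mul_assoc, hy, Matrix.mul_assoc,
      he.anti_val h.symm, Matrix.mul_neg]
  have hsT : sᵀ * 𝐉 = -(𝐉 * s) := by
    rw [hs, Matrix.transpose_add, Matrix.transpose_add, Matrix.add_mul, Matrix.add_mul, hprod a b hab,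
      hprod b c hbc, hprod c a hac.symm, Matrix.mul_add, Matrix.mul_add, neg_add, neg_add]
  have h2 := he.data.two_ne
  set T : M₄ := (2 : F)⁻¹ • (-1 + s) with hT
  set T' : M₄ := (2 : F)⁻¹ • (-1 - s) with hT'
  have hTT : T * T' = 1 ∧ T' * T = 1 := by
    have e1 : (-1 + s) * (-1 - s) = (4 : M₄) ∧ (-1 - s) * (-1 + s) = (4 : M₄) := by
      constructor <;>
      · rw [show (4 : M₄) = 1 - (-3) by norm_num, ← hss]; noncomm_ring
    have h4 : (4 : M₄) = (4 : F) • (1 : M₄) := by
      rw [← Algebra.algebraMap_eq_smul_one, map_ofNat]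
    constructor
    · rw [hT, hT', Matrix.smul_mul, Matrix.mul_smul, e1.1, h4, smul_smul, smul_smul]
      convert one_smul F (1 : M₄) using 2
      field_simp
      norm_num
    · rw [hT, hT', Matrix.smul_mul, Matrix.mul_smul, e1.2, h4, smul_smul, smul_smul]
      convert one_smul F (1 : M₄) using 2
      field_simp
      norm_num
  let t : GL ι₄ F := ⟨T, T', hTT.1, hTT.2⟩
  have ht : t ∈ spGL 2 F := by
    apply mem_of_transpose_mul
    show Tᵀ * 𝐉 * T = 𝐉
    have : Tᵀ * 𝐉 = 𝐉 * T' := by
      rw [hT, hT', Matrix.transpose_smul, Matrix.smul_mul, Matrix.mul_smul, Matrix.transpose_add,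
        Matrix.add_mul, hsT, Matrix.transpose_neg, Matrix.transpose_one, Matrix.mul_sub, Matrix.neg_mul,
        Matrix.one_mul, Matrix.mul_neg, Matrix.mul_one, sub_eq_add_neg]
    rw [this, Matrix.mul_assoc, hTT.2, Matrix.mul_one]
  have key : ∀ x y z : M₄, y * x = -(x * y) → z * x = -(x * z) → z * y = -(y * z) → x * x = 1 → y * y = 1 →
      (-1 + (x * y + y * z + z * x)) * x = y * (-1 + (x * y + y * z + z * x)) := by
    intro x y z h1 h2 h3 h4 h5
    have r1 : x * y * x = -y := by rw [mul_assoc, h1, mul_neg, ← mul_assoc, h4, one_mul]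
    have r2 : z * x * x = z := by rw [mul_assoc, h4, mul_one]
    have r3 : y * z * x = x * y * z := by
      calc y * z * x = -((y * x) * z) := by rw [mul_assoc, h2, mul_neg, ← mul_assoc]
        _ = x * y * z := by rw [h1, neg_mul, neg_neg]
    have r4 : y * (x * y) = -x := by rw [← mul_assoc, h1, neg_mul, mul_assoc, h5, mul_one]
    have r5 : y * (y * z) = z := by rw [← mul_assoc, h5, one_mul]
    have r6 : y * (z * x) = x * y * z := by rw [← mul_assoc, r3]
    rw [add_mul, add_mul, add_mul, mul_add, mul_add, mul_add, r1, r2, r3, r4, r5, r6]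
    noncomm_ring
  have hconj : ∀ l : Fin 5, T * (e l : M₄) =
      (e ((Equiv.swap a b * Equiv.swap b c) l) : M₄) * T := by
    intro l
    rw [hT, Matrix.smul_mul, Matrix.mul_smul]
    congr 1
    rcases eq_or_ne l a with rfl | hla
    · rw [show (Equiv.swap l b * Equiv.swap b c) l = b by
        simp [Equiv.swap_apply_of_ne_of_ne hab hac]]
      exact key A B C hBA hCA hCB hAA hBB
    rcases eq_or_ne l b with rfl | hlb
    · rw [show (Equiv.swap a l * Equiv.swap l c) l = c by
        simp [Equiv.swap_apply_of_ne_of_ne hac.symm hbc.symm]]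
      have := key B C A hCB hAB' hAC hBB hCC
      rw [show B * C + C * A + A * B = s by rw [hs]; abel] at this
      exact this
    rcases eq_or_ne l c with rfl | hlc
    · rw [show (Equiv.swap a b * Equiv.swap b l) l = a by simp]
      have := key C A B hAC hBC' hBA hCC hAA
      rw [show C * A + A * B + B * C = s by rw [hs]; abel] at this
      exact this
    · rw [show (Equiv.swap a b * Equiv.swap b c) l = l by
        simp [Equiv.swap_apply_of_ne_of_ne hlb hlc, Equiv.swap_apply_of_ne_of_ne hla hlb]]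
      have hcm : ∀ x y : Fin 5, l ≠ x → l ≠ y →
          (e x : M₄) * (e y : M₄) * (e l : M₄) = (e l : M₄) * ((e x : M₄) * (e y : M₄)) := by
        intro x y hx hy
        rw [mul_assoc, he.anti_val hy.symm, mul_neg, ← mul_assoc, he.anti_val hx.symm, neg_mul, neg_neg, mul_assoc]
      rw [add_mul, mul_add, hs, add_mul, add_mul, mul_add, mul_add, hcm a b hla hlb, hcm b c hlb hlc,
        hcm c a hlc hla, neg_mul, one_mul, mul_neg, mul_one]
  have hconj' : ∀ l : Fin 5, t * e l * t⁻¹ = e ((Equiv.swap a b * Equiv.swap b c) l) := by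
    intro l
    rw [mul_inv_eq_iff_eq_mul]
    exact Units.ext (hconj l)
  refine ⟨⟨t, ht⟩, isometry_ext fun v => ?_, he.mem_normalizer fun l => ?_⟩
  · rw [he.app_rho, app_pG]
    apply he.Xv_inj
    rw [he.Xv_conjVec ht]
    simp only [Xv, Finset.mul_sum, Finset.sum_mul, Matrix.mul_smul, Matrix.smul_mul]
    refine Fintype.sum_equiv (Equiv.swap a b * Equiv.swap b c) _ _ fun l => ?_
    rw [Function.comp_apply, Equiv.Perm.inv_def, Equiv.symm_apply_apply, ← hconj' l, Units.val_mul,
      Units.val_mul]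
  · rw [hconj']; exact he.mem _

/-- Every even permutation lifts into the normaliser. -/
theorem exists_perm {σ : Equiv.Perm (Fin 5)} (hσ : Equiv.Perm.sign σ = 1) :
    ∃ t : spGL 2 F, he.rho t = pG σ ∧ (t : GL ι₄ F) ∈ subgroupNormalizer R := by
  have hm : σ ∈ Subgroup.closure {σ : Equiv.Perm (Fin 5) | σ.IsThreeCycle} := by
    rw [Equiv.Perm.closure_three_cycles_eq_alternating]; exact hσ
  clear hσ
  induction hm using Subgroup.closure_induction with
  | mem x hx =>
    obtain ⟨a, ha⟩ : ∃ a, a ∈ x.support := by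
      apply Finset.Nonempty.exists_mem
      rw [← Finset.card_pos, Equiv.Perm.IsThreeCycle.card_support hx]; norm_num
    have h3 := Equiv.Perm.IsThreeCycle.orderOf hx
    have ha1 : x a ≠ a := Equiv.Perm.mem_support.mp ha
    have hx3 : ∀ y, x (x (x y)) = y := fun y => by
      have : (x ^ 3) y = y := by rw [← h3, pow_orderOf_eq_one]; rfl
      simpa [pow_succ] using this
    have hab : a ≠ x a := Ne.symm ha1
    have hac : a ≠ x (x a) := fun h => ha1 (by
      have := congrArg x h; rwa [hx3] at this)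
    have hbc : x a ≠ x (x a) := fun h => hab (x.injective h)
    obtain ⟨t, ht, htN⟩ := he.exists_cycle hab hac hbc
    refine ⟨t, ?_, htN⟩
    rw [ht]
    congr 1
    ext y
    have hsupp : x.support = {a, x a, x (x a)} := by
      symm
      apply Finset.eq_of_subset_of_card_le
      · intro z hz
        simp at hz
        rcases hz with rfl | rfl | rfl <;> simp [ha, ha1]
      · rw [Equiv.Perm.IsThreeCycle.card_support hx, Finset.card_eq_three.mpr ⟨a, x a, x (x a), hab, hac, hbc, rfl⟩]
    rcases eq_or_ne y a with rfl | h1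
    · simp [Equiv.swap_apply_of_ne_of_ne hab hac]
    rcases eq_or_ne y (x a) with rfl | h2
    · simp [Equiv.swap_apply_of_ne_of_ne hac.symm hbc.symm]
    rcases eq_or_ne y (x (x a)) with rfl | h3'
    · simp [hx3]
    · have : x y = y := Equiv.Perm.notMem_support.mp (by rw [hsupp]; simp [h1, h2, h3'])
      simp [Equiv.swap_apply_of_ne_of_ne h2 h3', Equiv.swap_apply_of_ne_of_ne h1 h2, this]
  | one => exact ⟨1, by rw [map_one, map_one], one_mem _⟩
  | mul x y _ _ hx hy =>
    obtain ⟨t, ht, htN⟩ := hx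
    obtain ⟨u, hu, huN⟩ := hy
    exact ⟨t * u, by rw [map_mul, map_mul, ht, hu], mul_mem htN huN⟩
  | inv x _ hx =>
    obtain ⟨t, ht, htN⟩ := hx
    exact ⟨t⁻¹, by rw [map_inv, map_inv, ht], inv_mem htN⟩

/-- Every even sign change lifts into the group. -/
theorem exists_signs : ∀ n, ∀ S : Finset (Fin 5), S.card = n → Even S.card →
    ∃ t : spGL 2 F, he.rho t = dd S ∧ (t : GL ι₄ F) ∈ R := by
  intro n
  induction n using Nat.strong_induction_on with
  | _ n ih =>
  intro S hn hS
  by_cases h0 : S = ∅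
  · exact ⟨1, by rw [map_one, h0, dd_empty], one_mem R⟩
  obtain ⟨a, ha⟩ := Finset.nonempty_of_ne_empty h0
  obtain ⟨b, hb, hba⟩ := Finset.exists_mem_ne (s := S) (by
    obtain ⟨l, hl⟩ := hS
    have := Finset.card_pos.mpr ⟨a, ha⟩
    omega) a
  have hsub : ({a, b} : Finset (Fin 5)) ⊆ S := Finset.insert_subset ha (Finset.singleton_subset_iff.mpr hb)
  have hcard : (S \ {a, b}).card = n - 2 := by
    rw [Finset.card_sdiff_of_subset hsub, Finset.card_pair hba.symm, hn]
  have hn2 : 2 ≤ n := by rw [← hn, ← Finset.card_pair hba.symm]; exact Finset.card_le_card hsub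
  obtain ⟨t, ht, htR⟩ := ih (n - 2) (by omega) _ hcard (by
    rw [hcard]; rw [hn] at hS; exact (Nat.even_sub hn2).mpr ⟨fun _ => even_two, fun _ => hS⟩)
  let u : spGL 2 F := ⟨he.Xu (ax a) (ax_unit a) * he.Xu (ax b) (ax_unit b),
    mul_mem (he.Xu_mem _ _) (he.Xu_mem _ _)⟩
  refine ⟨u * t, ?_, mul_mem ?_ htR⟩
  · rw [map_mul, ht, he.rho_pair, ← dd_pair hba.symm, dd_mul]
    congr 1
    ext i
    simp only [Finset.mem_symmDiff, Finset.mem_sdiff]
    constructor
    · rintro (⟨h, -⟩ | ⟨⟨h, -⟩, -⟩)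
      · exact hsub h
      · exact h
    · intro h
      by_cases hi : i ∈ ({a, b} : Finset (Fin 5))
      · exact Or.inl ⟨hi, fun hh => hh.2 hi⟩
      · exact Or.inr ⟨⟨h, hi⟩, hi⟩
  · have : ∀ i, he.Xu (ax i) (ax_unit i) = e i := fun i => Units.ext (Xv_ax e i)
    show he.Xu (ax a) (ax_unit a) * he.Xu (ax b) (ax_unit b) ∈ R
    rw [this, this]
    exact mul_mem (he.mem a) (he.mem b)

end Frame5

/-- The normaliser of the group of order 32 and minus type is maximal in `Sp₄(p)`. -/
theorem isMaximalIn_normalizer [Fintype F] {R : Subgroup (GL ι₄ F)} (D : Data R) (hsp : R ≤ spGL 2 F)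
    (hp : (Fintype.card F).Prime) :
    IsMaximalIn (spGL 2 F) (subgroupNormalizer R ⊓ spGL 2 F) := by
  classical
  obtain ⟨e, he⟩ := D.exists_frame hsp
  have h2 := D.two_ne
  have h3 : 3 ≤ Fintype.card F := by
    have h2le := hp.two_le
    by_contra hc
    have h : Fintype.card F = 2 := by omega
    haveI : Fact (Fintype.card F).Prime := ⟨hp⟩
    haveI : CharP F (Fintype.card F) := charP_of_card_eq_prime rfl
    apply h2
    have := CharP.cast_eq_zero F (Fintype.card F)
    rw [h] at this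
    simpa using this
  refine ⟨lt_of_le_of_ne inf_le_right fun hEq => ?_, fun M hM1 hM2 => ?_⟩
  · -- an isometry moving the frame
    let v : Fin 5 → F := fun i => if i = 4 then 0 else 1 / 2
    have hv : v ⬝ᵥ v = 1 := by
      simp [v, dotProduct, Fin.sum_univ_five]
      field_simp
      norm_num
    have hN := hEq.symm ▸ he.Xu_mem v hv
    have hmem := (Subgroup.mem_normalizer_iff.mp hN.1 (e 0)).mp (he.mem 0)
    set w := Frame5.conjVec e (he.Xu v hv) (ax 0) with hw
    have hval : ((he.Xu v hv * e 0 * (he.Xu v hv)⁻¹ : GL ι₄ F) : M₄) = Xv e w := by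
      rw [hw, he.Xv_conjVec (he.Xu_mem v hv), Xv_ax, Units.val_mul, Units.val_mul]
    have hsqw : he.Xu v hv * e 0 * (he.Xu v hv)⁻¹ * (he.Xu v hv * e 0 * (he.Xu v hv)⁻¹) = 1 := by
      simp only [mul_assoc, inv_mul_cancel_left]
      rw [← mul_assoc (e 0), he.sq 0, one_mul, mul_inv_cancel]
    obtain ⟨j, hj⟩ := he.all _ hmem hsqw
      (fun h => (he.ne_one 0).1 (by simpa using h))
      (fun h => (he.ne_one 0).2 (by
        have := congrArg (fun x => (he.Xu v hv)⁻¹ * x * he.Xu v hv) h
        simpa [mul_assoc] using this))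
    have hwj : w = ax j ∨ w = -ax j := by
      rcases hj with h | h <;> [left; right] <;> apply he.Xv_inj <;>
        rw [← hval, h] <;> simp [Xv_ax, Xv_neg]
    rw [hw, he.conjVec_Xu] at hwj
    have h0 : (-rf v (ax 0)) 0 = -(1 / 2) ∧ (-rf v (ax 0)) 1 = 1 / 2 := by
      constructor <;>
      · simp [rf, v, dot_ax, ax]
        field_simp
        try ring
    have hz : (1 / 2 : F) ≠ 0 := by simp [h2]
    rcases hwj with h | h <;> rw [h] at h0 <;> obtain ⟨h00, h01⟩ := h0
    · rcases eq_or_ne j 0 with rfl | hj0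
      · rw [ax_apply_ne (by decide)] at h01; exact hz h01.symm
      · rw [ax_apply_ne hj0.symm] at h00; exact hz (neg_eq_zero.mp h00.symm)
    · rcases eq_or_ne j 0 with rfl | hj0
      · rw [Pi.neg_apply, ax_apply_ne (by decide), neg_zero] at h01; exact hz h01.symm
      · rw [Pi.neg_apply, ax_apply_ne hj0.symm, neg_zero] at h00; exact hz (neg_eq_zero.mp h00.symm)
  -- the image in the orthogonal group
  let K : Subgroup (O (Fin 5) F) := (M.subgroupOf (spGL 2 F)).map he.rho
  have hneg : (-1 : GL ι₄ F) ∈ M := hM1 ⟨Subgroup.le_normalizer D.neg_one_mem, hsp D.neg_one_mem⟩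
  have hback : ∀ g : spGL 2 F, he.rho g ∈ K → (g : GL ι₄ F) ∈ M := by
    rintro g ⟨k, hk, hkg⟩
    have hker : he.rho (k⁻¹ * g) = 1 := by rw [map_mul, map_inv, hkg, inv_mul_cancel]
    have hk' : (k : GL ι₄ F) ∈ M := hk
    rcases he.eq_or_neg_of_rho hker with h | h
    · have : (g : GL ι₄ F) = k := by
        have := congrArg (fun x => (k : GL ι₄ F) * x) h
        simpa using this
      rw [this]; exact hk'
    · have : (g : GL ι₄ F) = (k : GL ι₄ F) * -1 := by
        have := congrArg (fun x => (k : GL ι₄ F) * x) h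
        simpa using this
      rw [this]; exact mul_mem hk' hneg
  have hdd : ∀ S : Finset (Fin 5), Even S.card → dd S ∈ K := fun S hS => by
    obtain ⟨t, ht, htR⟩ := he.exists_signs _ S rfl hS
    exact ⟨t, hM1 ⟨Subgroup.le_normalizer htR, t.2⟩, ht⟩
  have hperm : ∀ σ : Equiv.Perm (Fin 5), Equiv.Perm.sign σ = 1 → pG σ ∈ K := fun σ hσ => by
    obtain ⟨t, ht, htN⟩ := he.exists_perm hσ
    exact ⟨t, hM1 ⟨htN, t.2⟩, ht⟩
  rcases mono_or_pairs_odd h2 hp hdd hperm (Or.inl (by simp)) (by simp; decide) with hmono | hpairs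
  · left
    refine le_antisymm (fun g hg => ⟨he.mem_normalizer fun i => ?_, hM2 hg⟩) hM1
    obtain ⟨j, hj⟩ := hmono (he.rho ⟨g, hM2 hg⟩) ⟨⟨g, hM2 hg⟩, hg, rfl⟩ i
    rw [he.app_rho] at hj
    have hval : ((g * e i * g⁻¹ : GL ι₄ F) : M₄) = Xv e (Frame5.conjVec e g (ax i)) := by
      rw [he.Xv_conjVec (hM2 hg), Xv_ax, Units.val_mul, Units.val_mul]
    rcases hj with h | h
    · rw [show g * e i * g⁻¹ = e j from Units.ext (by rw [hval, h, Xv_ax])]
      exact he.mem j
    · rw [show g * e i * g⁻¹ = -e j from Units.ext (by rw [hval, h, Xv_neg, Xv_ax, Units.val_neg]),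
        ← neg_one_mul]
      exact mul_mem D.neg_one_mem (he.mem j)
  · right
    refine le_antisymm hM2 fun g hg => ?_
    let φ : Matrix.symplecticGroup (Fin 2) F →* GL ι₄ F :=
      MonoidHom.toHomUnits ((Matrix.symplecticGroup (Fin 2) F).subtype)
    have hφ : ∀ A, φ A ∈ spGL 2 F := fun A => Forms.mem_symplecticGroup_iff_preserves.mp A.2
    let S : Set (Matrix.symplecticGroup (Fin 2) F) :=
      {A | ∃ (v w : Fin 5 → F), v ⬝ᵥ v = 1 ∧ w ⬝ᵥ w = 1 ∧ (A : M₄) = Xv e v * Xv e w}
    have hle : Subgroup.closure S ≤ M.comap φ := by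
      rw [Subgroup.closure_le]
      rintro A ⟨v, w, hv, hw, hA⟩
      have h := hback ⟨he.Xu v hv * he.Xu w hw, mul_mem (he.Xu_mem v hv) (he.Xu_mem w hw)⟩
        (by rw [he.rho_pair]; exact hpairs v w hv hw)
      show φ A ∈ M
      rw [show φ A = he.Xu v hv * he.Xu w hw from Units.ext hA]
      exact h
    haveI : (Subgroup.closure S).Normal := ⟨fun n hn k => by
      induction hn using Subgroup.closure_induction with
      | mem A hA =>
        obtain ⟨v, w, hv, hw, hA⟩ := hA
        refine Subgroup.subset_closure ⟨Frame5.conjVec e (φ k) v, Frame5.conjVec e (φ k) w,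
          by rw [he.conjVec_dot (hφ k), hv], by rw [he.conjVec_dot (hφ k), hw], ?_⟩
        rw [he.Xv_conjVec (hφ k), he.Xv_conjVec (hφ k)]
        show ((φ (k * A * k⁻¹) : GL ι₄ F) : M₄) = _
        rw [map_mul, map_mul, map_inv, Units.val_mul, Units.val_mul, show (φ A : M₄) = Xv e v * Xv e w from hA]
        calc _ = (φ k : M₄) * Xv e v * ((((φ k)⁻¹ : GL ι₄ F) : M₄) * (φ k : M₄)) *
              (Xv e w * (((φ k)⁻¹ : GL ι₄ F) : M₄)) := by
              rw [Units.inv_mul, Matrix.mul_one]; simp only [Matrix.mul_assoc]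
          _ = _ := by simp only [Matrix.mul_assoc]
      | one => simp
      | mul x y _ _ hx hy =>
        rw [show k * (x * y) * k⁻¹ = (k * x * k⁻¹) * (k * y * k⁻¹) by group]
        exact mul_mem hx hy
      | inv x _ hx =>
        rw [show k * x⁻¹ * k⁻¹ = (k * x * k⁻¹)⁻¹ by group]
        exact inv_mem hx⟩
    have htop : Subgroup.closure S = ⊤ := by
      refine normal_eq_top le_rfl (fun _ => h3) _ fun hc => ?_
      let A : Matrix.symplecticGroup (Fin 2) F := ⟨Xv e (ax 0) * Xv e (ax 1),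
        Forms.mem_symplecticGroup_iff_preserves.mpr
          (mul_mem (he.Xu_mem (ax 0) (ax_unit 0)) (he.Xu_mem (ax 1) (ax_unit 1)) :
            he.Xu (ax 0) (ax_unit 0) * he.Xu (ax 1) (ax_unit 1) ∈ spGL 2 F)⟩
      have hA := (Classical.center_symplecticGroup 2 A).mp
        (hc (Subgroup.subset_closure ⟨ax 0, ax 1, ax_unit 0, ax_unit 1, rfl⟩))
      have ht : (A : M₄).trace = 0 := by
        show (Xv e (ax 0) * Xv e (ax 1)).trace = 0
        rw [Xv_ax, Xv_ax, he.trace_mul]; simp
      rcases hA with h | h <;> rw [h] at ht <;> simp at ht <;> exact he.four_ne ht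
    rw [htop] at hle
    have := hle (Subgroup.mem_top ⟨(g : M₄), Forms.mem_symplecticGroup_iff_preserves.mpr hg⟩)
    rwa [Subgroup.mem_comap, show φ ⟨(g : M₄), _⟩ = g from Units.ext rfl] at this

end Cfsg.Agent.Lib.SympExtraFour
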