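import Mathlib
import Cfsg.Prelude.Def_GeometricClasses
import Cfsg.Agent.Lib.Extraspecial.SquareCount
import Cfsg.Agent.Lib.LargeES.Heisenberg
import Cfsg.Agent.Lib.MaxClass.ExponentFour

/-!
An absolutely irreducible group of symplectic type of order 32 and minus type in dimension four:
elementary properties.
-/

set_option autoImplicit false
set_option linter.style.haveILetI false

namespace Cfsg.Agent.Lib.SympExtraFour

open Cfsg Cfsg.Geo Matrix
open Cfsg.Agent.Lib.ExtraStruct
open scoped commutatorElement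

variable {ι : Type} [Fintype ι] [DecidableEq ι] {F : Type*} [Field F]

/-- The hypotheses. -/
structure Data (R : Subgroup (GL ι F)) : Prop where
  two_ne : (2 : F) ≠ 0
  four : Fintype.card ι = 4
  card : Nat.card R = 32
  center : Nat.card (Subgroup.center R) = 2
  pgroup : IsPGroup 2 R
  class_two : commutator R ≤ Subgroup.center R
  irr : ActsAbsolutelyIrreducibly (matrixSet R)
  minus : IsOfMinusType 2 R

theorem data_of_hyps {R : Subgroup (GL ι F)} (h2 : (2 : F) ≠ 0) (hι : Fintype.card ι = 4)
    (hRs : IsSymplecticTypeGroup 2 R) (hRi : ActsAbsolutelyIrreducibly (matrixSet R))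
    (hR5 : Nat.card R = 2 ^ 5) (hRZ : Nat.card (Subgroup.center R) = 2) (hRm : IsOfMinusType 2 R) :
    Data R := by
  haveI : Finite R := Nat.finite_of_card_ne_zero (by omega)
  exact ⟨h2, hι, by rw [hR5]; norm_num, hRZ, hRs.pGroup,
    Cfsg.Agent.Lib.MaxClass.commutator_le_center_of_exponent_four hRs.pGroup hRs.cyclic_of_characteristic
      (by rw [hRs.exponent_eq]; norm_num) hRZ, hRi, hRm⟩

variable {R : Subgroup (GL ι F)}

namespace Data

theorem finite (D : Data R) : Finite R := Nat.finite_of_card_ne_zero (by rw [D.card]; norm_num)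

theorem scalar_of_commute (D : Data R) {M : Matrix ι ι F}
    (h : ∀ a ∈ R, M * (a : Matrix ι ι F) = (a : Matrix ι ι F) * M) : ∃ c : F, M = c • 1 :=
  D.irr.2 M (by rintro s ⟨a, ha, rfl⟩; exact h a ha)

theorem neg_ne_one (D : Data R) : (-1 : GL ι F) ≠ 1 := by
  intro h
  haveI : Nonempty ι := Fintype.card_pos_iff.mp (by rw [D.four]; norm_num)
  obtain ⟨i⟩ := (inferInstance : Nonempty ι)
  have h' := congrArg (fun g : GL ι F => (g : Matrix ι ι F) i i) h
  simp at h'
  exact D.two_ne (by linear_combination (-1 : F) * h')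

/-- The central elements are `1` and `-1`. -/
theorem mem_center_iff (D : Data R) (a : R) :
    a ∈ Subgroup.center R ↔ (a : GL ι F) = 1 ∨ (a : GL ι F) = -1 := by
  haveI := D.finite
  constructor
  · intro ha
    obtain ⟨c, hc⟩ := D.scalar_of_commute (M := ((a : GL ι F) : Matrix ι ι F)) fun b hb => by
      have := congrArg (fun x : R => ((x : GL ι F) : Matrix ι ι F))
        (Subgroup.mem_center_iff.mp ha ⟨b, hb⟩)
      simpa using this.symm
    have hsq : a ^ 2 = 1 := by
      have : (⟨a, ha⟩ : Subgroup.center R) ^ Nat.card (Subgroup.center R) = 1 := pow_card_eq_one'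
      rw [D.center] at this
      exact congrArg Subtype.val this
    haveI : Nonempty ι := Fintype.card_pos_iff.mp (by rw [D.four]; norm_num)
    have hsq' := congrArg (fun x : R => ((x : GL ι F) : Matrix ι ι F)) hsq
    simp only [SubgroupClass.coe_pow, Units.val_pow_eq_pow_val, hc, _root_.smul_pow, one_pow, OneMemClass.coe_one,
      Units.val_one] at hsq'
    obtain ⟨i⟩ := (inferInstance : Nonempty ι)
    have h1 : c ^ 2 = 1 := by simpa using congrFun (congrFun hsq' i) i
    rcases sq_eq_one_iff.mp h1 with rfl | rfl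
    · left; exact Units.ext (by simp [hc])
    · right; exact Units.ext (by simp [hc])
  · rintro (h | h) <;> rw [Subgroup.mem_center_iff] <;> intro b <;> apply Subtype.ext <;>
      simp [h]

theorem neg_one_mem (D : Data R) : (-1 : GL ι F) ∈ R := by
  haveI := D.finite
  obtain ⟨a, ha, b, hb, hab⟩ : ∃ a ∈ Subgroup.center R, ∃ b ∈ Subgroup.center R, a ≠ b := by
    obtain ⟨x, y, hxy, -⟩ := Nat.card_eq_two_iff.mp D.center
    exact ⟨x, x.2, y, y.2, fun h => hxy (Subtype.ext h)⟩
  rcases (D.mem_center_iff a).mp ha with h | h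
  · rcases (D.mem_center_iff b).mp hb with h' | h'
    · exact absurd (Subtype.ext (h.trans h'.symm)) hab
    · exact h' ▸ b.2
  · exact h ▸ a.2

theorem extraLike (D : Data R) : ExtraLike 2 R := by
  haveI := D.finite
  have hcm : ∀ a b : R, ⁅a, b⁆ ∈ Subgroup.center R := fun a b =>
    D.class_two (Subgroup.commutator_mem_commutator (Subgroup.mem_top a) (Subgroup.mem_top b))
  refine ⟨D.center, hcm, fun a => Subgroup.mem_center_iff.mpr fun b => ?_⟩
  have h1 : ⁅a ^ 2, b⁆ = ⁅a, b⁆ ^ 2 := Extraspecial.commutator_pow_left (hcm a b) 2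
  have h2 : (⟨⁅a, b⁆, hcm a b⟩ : Subgroup.center R) ^ Nat.card (Subgroup.center R) = 1 := pow_card_eq_one'
  rw [D.center] at h2
  rw [show ⁅a, b⁆ ^ 2 = 1 from congrArg Subtype.val h2, commutatorElement_eq_one_iff_mul_comm] at h1
  exact h1.symm

/-- Two elements commute or anticommute. -/
theorem commute_or_anti (D : Data R) {a b : GL ι F} (ha : a ∈ R) (hb : b ∈ R) :
    a * b = b * a ∨ a * b = -(b * a) := by
  have h := (D.mem_center_iff ⁅(⟨a, ha⟩ : R), ⟨b, hb⟩⁆).mp (D.extraLike.comm_mem _ _)
  have he : ((⁅(⟨a, ha⟩ : R), ⟨b, hb⟩⁆ : R) : GL ι F) = a * b * a⁻¹ * b⁻¹ := rfl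
  rw [he] at h
  rcases h with h | h
  · exact Or.inl (mul_inv_eq_iff_eq_mul.mp (mul_inv_eq_one.mp h))
  · right
    rw [mul_inv_eq_iff_eq_mul, mul_inv_eq_iff_eq_mul] at h
    rw [h, neg_one_mul, neg_mul]

theorem sq_cases (D : Data R) {a : GL ι F} (ha : a ∈ R) : a * a = 1 ∨ a * a = -1 := by
  have h := (D.mem_center_iff _).mp (D.extraLike.pow_mem ⟨a, ha⟩)
  simpa [sq] using h

/-- The trace vanishes outside the centre. -/
theorem trace_eq_zero (D : Data R) {a : GL ι F} (ha : a ∈ R) (h1 : a ≠ 1) (h2 : a ≠ -1) :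
    (a : Matrix ι ι F).trace = 0 := by
  have hnc : (⟨a, ha⟩ : R) ∉ Subgroup.center R := fun h => ((D.mem_center_iff _).mp h).elim h1 h2
  rw [Subgroup.mem_center_iff] at hnc
  push Not at hnc
  obtain ⟨⟨b, hb⟩, hab⟩ := hnc
  have hab' : b * a = -(a * b) :=
    (D.commute_or_anti hb ha).resolve_left fun h => hab (Subtype.ext h)
  have h : (b : Matrix ι ι F) * (a : Matrix ι ι F) * ((b⁻¹ : GL ι F) : Matrix ι ι F) = -(a : Matrix ι ι F) := by
    rw [← Units.val_mul, hab', Units.val_neg, Units.val_mul, neg_mul, mul_assoc, ← Units.val_mul,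
      mul_inv_cancel, Units.val_one, mul_one]
  have h' := congrArg Matrix.trace h
  rw [Matrix.trace_units_conj b (a : Matrix ι ι F), Matrix.trace_neg] at h'
  have : (2 : F) * (a : Matrix ι ι F).trace = 0 := by linear_combination h'
  exact (mul_eq_zero.mp this).resolve_left D.two_ne

/-- Commuting noncentral involutions differ by a sign. -/
theorem eight (D : Data R) {a b : GL ι F} (ha : a ∈ R) (hb : b ∈ R) (ha2 : a * a = 1) (hb2 : b * b = 1)
    (hab : a * b = b * a) (ha1 : a ≠ 1) (ha1' : a ≠ -1) (hb1 : b ≠ 1) (hb1' : b ≠ -1) :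
    b = a ∨ b = -a := by
  haveI := D.finite
  by_contra hne
  push Not at hne
  let s : Set R := {⟨-1, D.neg_one_mem⟩, ⟨a, ha⟩, ⟨b, hb⟩}
  let A : Subgroup R := Subgroup.closure s
  have hs : ∀ x ∈ s, ∀ y ∈ s, x * y = y * x := by
    intro x hx y hy
    rcases hx with rfl | rfl | rfl <;> rcases hy with rfl | rfl | rfl <;> apply Subtype.ext <;>
      simp [hab]
  have hcomm : IsMulCommutative A := Subgroup.isMulCommutative_closure hs
  have hexp : ∀ x ∈ A, x * x = 1 := by
    intro x hx
    induction hx using Subgroup.closure_induction with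
    | mem y hy => rcases hy with rfl | rfl | rfl <;> apply Subtype.ext <;> simp [ha2, hb2]
    | one => simp
    | mul u v hu hv hu2 hv2 =>
      have hc : u * v = v * u := congrArg Subtype.val (hcomm.is_comm.comm ⟨u, hu⟩ ⟨v, hv⟩)
      calc u * v * (u * v) = u * (v * u) * v := by group
        _ = (u * u) * (v * v) := by rw [← hc]; group
        _ = 1 := by rw [hu2, hv2, one_mul]
    | inv u _ hu2 => rw [← _root_.mul_inv_rev, hu2, inv_one]
  have h := D.minus A hcomm hexp
  have hdvd : Nat.card A ∣ 2 ^ 5 := by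
    have := Subgroup.card_subgroup_dvd_card A
    rwa [D.card] at this
  obtain ⟨k, hk, hkA⟩ := (Nat.dvd_prime_pow Nat.prime_two).mp hdvd
  have hz : (⟨-1, D.neg_one_mem⟩ : R) ∈ A := Subgroup.subset_closure (Or.inl rfl)
  have hA : (⟨a, ha⟩ : R) ∈ A := Subgroup.subset_closure (Or.inr (Or.inl rfl))
  have hB : (⟨b, hb⟩ : R) ∈ A := Subgroup.subset_closure (Or.inr (Or.inr rfl))
  let f : Fin 5 → A := ![1, ⟨_, hz⟩, ⟨_, hA⟩, ⟨_, hB⟩, ⟨_, mul_mem hz hA⟩]
  have hneg := D.neg_ne_one
  have hf : Function.Injective f := by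
    have hna : -a ≠ 1 := fun e => ha1' (by rw [← neg_neg a, e])
    have haa : a ≠ -a := fun e => hneg (by
      have := congrArg (fun x => x * a) e
      simpa [ha2, neg_mul] using this.symm)
    intro i j hij
    have e := congrArg (fun x : A => ((x : R) : GL ι F)) hij
    fin_cases i <;> fin_cases j <;> simp [f] at e <;>
      first
        | rfl
        | exact absurd e hneg | exact absurd e.symm hneg
        | exact absurd e ha1 | exact absurd e.symm ha1
        | exact absurd e ha1' | exact absurd e.symm ha1'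
        | exact absurd e hb1 | exact absurd e.symm hb1
        | exact absurd e hb1' | exact absurd e.symm hb1'
        | exact absurd e hna | exact absurd e.symm hna
        | exact absurd e haa | exact absurd e.symm haa
        | exact absurd e hne.1 | exact absurd e.symm hne.1
        | exact absurd e hne.2 | exact absurd e.symm hne.2
        | exact absurd (neg_injective (e.trans (neg_neg (1 : GL ι F)).symm)) ha1'
        | exact absurd (neg_injective e.symm) ha1 | exact absurd (neg_injective e) ha1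
  have h5 := Nat.card_le_card_of_injective f hf
  rw [Nat.card_fin, hkA] at h5
  rw [hkA] at h
  have : k < 3 := (Nat.pow_lt_pow_iff_right (by norm_num : 1 < 2)).mp h
  interval_cases k <;> norm_num at h5

theorem isExtraspecial (D : Data R) : IsExtraspecial 2 R := by
  haveI := D.finite
  obtain ⟨x, y, hxy⟩ : ∃ x y : R, x * y ≠ y * x := by
    by_contra hc
    push Not at hc
    have : Subgroup.center R = ⊤ := top_unique fun g _ => Subgroup.mem_center_iff.mpr fun b => hc b g
    have h := D.center
    rw [this, Subgroup.card_top, D.card] at h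
    omega
  refine Cfsg.Agent.Lib.LargeES.Heisenberg.isExtraspecial_of_props D.pgroup (z := ⟨-1, D.neg_one_mem⟩)
    (fun h => D.neg_ne_one (congrArg Subtype.val h)) ((D.mem_center_iff _).mpr (Or.inr rfl))
    (fun c hc => ((D.mem_center_iff c).mp hc).imp (fun h => Subtype.ext h) fun h => Subtype.ext h)
    (fun c => D.extraLike.pow_mem c) (fun a b => ?_) hxy
  simpa [commutatorElement_def] using D.extraLike.comm_mem a b

/-- Twelve square roots of one. -/
theorem card_sq_one (D : Data R) : Nat.card {g : R // g ^ 2 = 1} = 12 := by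
  haveI := D.finite
  haveI : Fact (Nat.Prime 2) := ⟨Nat.prime_two⟩
  refine (ExtraStruct.card_sq_one 2 R D.extraLike (by rw [D.card]; norm_num) (by norm_num)).2 ?_
  rintro ⟨x, y, hxy, hx, -, w, hwc, hw⟩
  have hxy' : x ∉ Subgroup.center R := fun h =>
    hxy (commutatorElement_eq_one_iff_mul_comm.mpr (Subgroup.mem_center_iff.mp h y).symm)
  have hwc' : (w : R) ∉ Subgroup.center R := by
    intro h
    apply hwc
    rw [center_centralizer_pair D.extraLike hxy, Subgroup.mem_subgroupOf]
    exact h
  rw [D.mem_center_iff, not_or] at hxy' hwc'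
  have hcomm : x * (w : R) = w * x := Subgroup.mem_centralizer_iff.mp w.2 x (Set.mem_insert _ _)
  have hC : x ∉ Subgroup.centralizer ({x, y} : Set R) := fun h => hxy
    (commutatorElement_eq_one_iff_mul_comm.mpr
      (Subgroup.mem_centralizer_iff.mp h y (Set.mem_insert_of_mem _ rfl)).symm)
  have hw2 : (w : R) ^ 2 = 1 := by rw [← SubgroupClass.coe_pow, hw]; rfl
  rcases D.eight x.2 (w : R).2 (by rw [← sq]; exact congrArg Subtype.val hx)
    (by rw [← sq]; exact congrArg Subtype.val hw2) (congrArg Subtype.val hcomm)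
    hxy'.1 hxy'.2 hwc'.1 hwc'.2 with h | h
  · exact hC ((congrArg (· ∈ Subgroup.centralizer ({x, y} : Set R))
      (show x = w from Subtype.ext h.symm)).mpr w.2)
  · apply hC
    have e : x = ⟨-1, D.neg_one_mem⟩ * (w : R) := Subtype.ext (by simp [h])
    refine (congrArg (· ∈ Subgroup.centralizer ({x, y} : Set R)) e).mpr ?_
    refine mul_mem (center_le_centralizer x y ?_) w.2
    exact (D.mem_center_iff _).mpr (Or.inr rfl)

end Data

end Cfsg.Agent.Lib.SympExtraFour
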