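import Cfsg.Agent.Lib.MaxClass.NotTopSymp

/-!
Conjugacy in `Sp₄` of elements squaring to a scalar.
-/

set_option autoImplicit false

namespace Cfsg.Agent.Lib.SympExtraFour

open Cfsg Cfsg.Geo Matrix
open Cfsg.Agent.Lib.MaxClass

variable {F : Type*} [Field F]

local notation "ι₄" => (Fin 2 ⊕ Fin 2)

local notation "ω" => sympForm 2 F

/-- The matrix with prescribed columns. -/
def cols (e f : Fin 2 → ι₄ → F) : Matrix ι₄ ι₄ F := fun i j => Sum.elim e f j i

theorem cols_single (e f : Fin 2 → ι₄ → F) (j : ι₄) : cols e f *ᵥ Pi.single j 1 = Sum.elim e f j := by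
  ext i; simp [cols]

theorem sympForm_single (i j : ι₄) :
    sympForm 2 F (Pi.single i 1) (Pi.single j 1) = Matrix.J (Fin 2) F i j := by
  simp [sympForm]

/-- A symplectic basis gives a symplectic matrix. -/
theorem exists_of_frame (e f : Fin 2 → ι₄ → F) (hee : ω (e 0) (e 1) = 0) (hff : ω (f 0) (f 1) = 0)
    (h00 : ω (e 0) (f 0) = -1) (h11 : ω (e 1) (f 1) = -1) (h01 : ω (e 0) (f 1) = 0)
    (h10 : ω (e 1) (f 0) = 0) :
    ∃ P ∈ spGL 2 F, (P : Matrix ι₄ ι₄ F) = cols e f := by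
  have hgram : (cols e f)ᵀ * Matrix.J (Fin 2) F * cols e f = Matrix.J (Fin 2) F := by
    ext i j
    have : ((cols e f)ᵀ * Matrix.J (Fin 2) F * cols e f) i j = ω (Sum.elim e f i) (Sum.elim e f j) := by
      rw [← cols_single, ← cols_single]
      simp only [sympForm]
      rw [Matrix.dotProduct_mulVec, Matrix.dotProduct_mulVec, Matrix.vecMul_vecMul,
        ← Matrix.vecMul_transpose, Matrix.vecMul_vecMul, dotProduct_single_one, Matrix.single_one_vecMul,
        Matrix.row_apply, Matrix.mul_assoc]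
    rw [this]
    rcases i with i | i <;> rcases j with j | j <;> fin_cases i <;> fin_cases j <;>
      simp [Matrix.J, Matrix.fromBlocks, sympForm_self, h00, h11, h01, h10, hee, hff,
        sympForm_skew (e 1) (e 0), sympForm_skew (f 1) (f 0), sympForm_skew (f 0) (e 0),
        sympForm_skew (f 1) (e 1), sympForm_skew (f 1) (e 0), sympForm_skew (f 0) (e 1)]
  have hdet : (cols e f).det ≠ 0 := by
    intro h
    have := congrArg Matrix.det hgram
    rw [Matrix.det_mul, Matrix.det_mul, h, mul_zero] at this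
    exact (Matrix.isUnit_det_J (Fin 2) F).ne_zero this.symm
  refine ⟨GeneralLinearGroup.mkOfDetNeZero (cols e f) hdet, mem_spGL_of_form fun u v => ?_, rfl⟩
  show (cols e f *ᵥ u) ⬝ᵥ (Matrix.J (Fin 2) F *ᵥ (cols e f *ᵥ v)) = u ⬝ᵥ (Matrix.J (Fin 2) F *ᵥ v)
  conv_rhs => rw [← hgram]
  rw [← Matrix.mulVec_mulVec, ← Matrix.mulVec_mulVec, Matrix.dotProduct_mulVec u,
    Matrix.vecMul_transpose]

theorem form_eq {x : GL ι₄ F} (hx : x ∈ spGL 2 F) (u v : ι₄ → F) :
    ω ((x : Matrix ι₄ ι₄ F) *ᵥ u) ((x : Matrix ι₄ ι₄ F) *ᵥ v) = ω u v := hx u v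

theorem apply_apply {x : GL ι₄ F} {c : F} (hc : (x : Matrix ι₄ ι₄ F) * x = c • 1) (u : ι₄ → F) :
    (x : Matrix ι₄ ι₄ F) *ᵥ ((x : Matrix ι₄ ι₄ F) *ᵥ u) = c • u := by
  rw [Matrix.mulVec_mulVec, hc, Matrix.smul_mulVec, Matrix.one_mulVec]

/-- Two frames for the same operator give a symplectic conjugation. -/
theorem conj_of_frames {x y P Q : GL ι₄ F} {D : Matrix ι₄ ι₄ F} (hP : P ∈ spGL 2 F) (hQ : Q ∈ spGL 2 F)
    (hxP : (x : Matrix ι₄ ι₄ F) * P = P * D) (hyQ : (y : Matrix ι₄ ι₄ F) * Q = Q * D) :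
    ∃ g ∈ spGL 2 F, g⁻¹ * x * g = y := by
  have h : P⁻¹ * x * P = Q⁻¹ * y * Q := by
    apply Units.ext
    simp only [Units.val_mul, mul_assoc, hxP, hyQ]
    rw [← mul_assoc, ← mul_assoc, ← Units.val_mul, ← Units.val_mul, inv_mul_cancel, inv_mul_cancel]
  refine ⟨P * Q⁻¹, mul_mem hP (inv_mem hQ), ?_⟩
  calc (P * Q⁻¹)⁻¹ * x * (P * Q⁻¹) = Q * (P⁻¹ * x * P) * Q⁻¹ := by group
    _ = y := by rw [h]; group

theorem mul_cols {x : Matrix ι₄ ι₄ F} {e f : Fin 2 → ι₄ → F} {D : Matrix ι₄ ι₄ F}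
    (h : ∀ j, x *ᵥ Sum.elim e f j = cols e f *ᵥ (D *ᵥ Pi.single j 1)) : x * cols e f = cols e f * D := by
  refine Matrix.ext_of_mulVec_single fun j => ?_
  rw [← Matrix.mulVec_mulVec, ← Matrix.mulVec_mulVec, cols_single, h]

/-- Frame for a noncentral involution. -/
theorem exists_frame_one (h2 : (2 : F) ≠ 0) {x : GL ι₄ F} (hx : x ∈ spGL 2 F)
    (hsq : (x : Matrix ι₄ ι₄ F) * x = (1 : F) • 1) (hns : ∀ z : F, (x : Matrix ι₄ ι₄ F) ≠ z • 1) :
    ∃ P ∈ spGL 2 F, (x : Matrix ι₄ ι₄ F) * P =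
      P * Matrix.diagonal (Sum.elim ![(1 : F), -1] ![1, -1]) := by
  have horth : ∀ u v : ι₄ → F, (x : Matrix ι₄ ι₄ F) *ᵥ u = u → (x : Matrix ι₄ ι₄ F) *ᵥ v = -v → ω u v = 0 := by
    intro u v hu hv
    have := form_eq hx u v
    rw [hu, hv, ← neg_one_smul F v, sympForm_smul_right] at this
    have : (2 : F) * ω u v = 0 := by linear_combination -this
    exact (mul_eq_zero.mp this).resolve_left h2
  have hpair : ∀ s : F, (s = 1 ∨ s = -1) → ∃ u w : ι₄ → F, (x : Matrix ι₄ ι₄ F) *ᵥ u = s • u ∧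
      (x : Matrix ι₄ ι₄ F) *ᵥ w = s • w ∧ ω u w = -1 := by
    intro s hs
    have hs2 : s * s = 1 := by rcases hs with rfl | rfl <;> norm_num
    have hproj : ∀ y : ι₄ → F, (x : Matrix ι₄ ι₄ F) *ᵥ (y + s • ((x : Matrix ι₄ ι₄ F) *ᵥ y)) =
        s • (y + s • ((x : Matrix ι₄ ι₄ F) *ᵥ y)) := by
      intro y
      rw [Matrix.mulVec_add, Matrix.mulVec_smul, apply_apply hsq, one_smul, smul_add, smul_smul, hs2,
        one_smul, add_comm]
    obtain ⟨u, hu0, hu⟩ : ∃ u : ι₄ → F, u ≠ 0 ∧ (x : Matrix ι₄ ι₄ F) *ᵥ u = s • u := by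
      by_contra hc
      push Not at hc
      apply hns (-s)
      refine Matrix.ext_of_mulVec_single fun j => ?_
      have h := not_imp_not.mp (hc _) (hproj (Pi.single j 1))
      rw [Matrix.smul_mulVec, Matrix.one_mulVec]
      have h' := congrArg (fun w => s • w) h
      simp only [smul_add, smul_smul, hs2, one_smul, smul_zero] at h'
      rw [neg_smul, eq_neg_iff_add_eq_zero, add_comm]
      exact h'
    obtain ⟨y, hy⟩ := sympForm_nondeg' hu0
    have hxy : ω u ((x : Matrix ι₄ ι₄ F) *ᵥ y) = s * ω u y := by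
      have h := form_eq hx u y
      rw [hu, sympForm_smul_left] at h
      calc ω u ((x : Matrix ι₄ ι₄ F) *ᵥ y) = s * s * ω u ((x : Matrix ι₄ ι₄ F) *ᵥ y) := by rw [hs2, one_mul]
        _ = s * ω u y := by rw [mul_assoc, h]
    have hval : ω u (y + s • ((x : Matrix ι₄ ι₄ F) *ᵥ y)) = 2 * ω u y := by
      rw [sympForm_add_right, sympForm_smul_right, hxy, ← mul_assoc, hs2]; ring
    refine ⟨u, (-(2 * ω u y)⁻¹) • (y + s • ((x : Matrix ι₄ ι₄ F) *ᵥ y)), hu, ?_, ?_⟩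
    · rw [Matrix.mulVec_smul, hproj, smul_comm]
    · rw [sympForm_smul_right, hval, neg_mul, inv_mul_cancel₀ (mul_ne_zero h2 hy)]
  obtain ⟨u, w, hu, hw, huw⟩ := hpair 1 (Or.inl rfl)
  obtain ⟨u', w', hu', hw', huw'⟩ := hpair (-1) (Or.inr rfl)
  rw [one_smul] at hu hw
  rw [neg_one_smul] at hu' hw'
  obtain ⟨P, hP, hPc⟩ := exists_of_frame ![u, u'] ![w, w'] (horth _ _ hu hu') (horth _ _ hw hw')
    huw huw' (horth _ _ hu hw') (by
      show ω u' w = 0
      rw [sympForm_skew, horth _ _ hw hu', neg_zero])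
  refine ⟨P, hP, ?_⟩
  rw [hPc]
  refine mul_cols fun j => ?_
  rw [show (Matrix.diagonal (Sum.elim ![(1 : F), -1] ![1, -1]) : Matrix ι₄ ι₄ F) *ᵥ Pi.single j 1 =
      (Sum.elim ![(1 : F), -1] ![1, -1] j) • Pi.single j 1 by
    rw [Matrix.mulVec_single_one]; ext i
    by_cases h : i = j
    · subst h; simp
    · simp [h],
    Matrix.mulVec_smul, cols_single]
  rcases j with j | j <;> fin_cases j <;> simp [hu, hw, hu', hw']

/-- Frame for a square root of minus one. -/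
theorem exists_frame_neg [Fintype F] (h2 : (2 : F) ≠ 0) {x : GL ι₄ F} (hx : x ∈ spGL 2 F)
    (hsq : (x : Matrix ι₄ ι₄ F) * x = (-1 : F) • 1) :
    ∃ P ∈ spGL 2 F, (x : Matrix ι₄ ι₄ F) * P = P * Matrix.J (Fin 2) F := by
  set X := (x : Matrix ι₄ ι₄ F) with hX
  have hxx : ∀ u, X *ᵥ (X *ᵥ u) = -u := fun u => by rw [hX, apply_apply hsq, neg_one_smul]
  have hneg : ∀ u v : ι₄ → F, ω u (-v) = -ω u v := fun u v => by
    rw [← neg_one_smul F v, sympForm_smul_right, neg_one_mul]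
  -- the symmetric form `(u, v) ↦ ω u (x v)`
  have hsymm : ∀ u v : ι₄ → F, ω v (X *ᵥ u) = ω u (X *ᵥ v) := by
    intro u v
    have h := form_eq hx v (X *ᵥ u)
    rw [← hX, hxx, hneg] at h
    rw [sympForm_skew u, ← h]
  have hone : ∀ (W : Submodule F (ι₄ → F)), (∀ w ∈ W, X *ᵥ w ∈ W) →
      (∃ s ∈ W, ∃ t ∈ W, ω s t ≠ 0) → ∃ v ∈ W, ω v (X *ᵥ v) = -1 := by
    intro W hW ⟨s, hs, t, ht, hst⟩
    obtain ⟨u, hu, hd⟩ : ∃ u ∈ W, ω u (X *ᵥ u) ≠ 0 := by
      by_contra hc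
      push Not at hc
      apply hst
      have ht' : X *ᵥ (-(X *ᵥ t)) = t := by rw [Matrix.mulVec_neg, hxx, neg_neg]
      set t' := -(X *ᵥ t) with ht'def
      have htW : t' ∈ W := W.neg_mem (hW t ht)
      have h := hc _ (W.add_mem hs htW)
      rw [Matrix.mulVec_add, sympForm_add_left, sympForm_add_right, sympForm_add_right, hc s hs, hc t' htW,
        hsymm s t', ht'] at h
      have : (2 : F) * ω s t = 0 := by linear_combination h
      exact (mul_eq_zero.mp this).resolve_left h2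
    set d := ω u (X *ᵥ u) with hd_def
    have hsolve : ∃ a b : F, a ^ 2 + b ^ 2 = -d⁻¹ := by
      have hchar : ringChar F ≠ 2 := fun h => h2 (by
        have := ringChar.Nat.cast_ringChar (R := F)
        rw [h] at this
        exact_mod_cast this)
      obtain ⟨a, b, hab⟩ := FiniteField.exists_root_sum_quadratic (f := (Polynomial.X ^ 2 : Polynomial F))
        (g := Polynomial.X ^ 2 - Polynomial.C (-d⁻¹)) (Polynomial.degree_X_pow 2)
        (Polynomial.degree_X_pow_sub_C (by decide) _) (FiniteField.odd_card_of_char_ne_two hchar)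
      exact ⟨a, b, by simp at hab; linear_combination hab⟩
    obtain ⟨a, b, hab⟩ := hsolve
    refine ⟨a • u + b • (X *ᵥ u), W.add_mem (W.smul_mem a hu) (W.smul_mem b (hW u hu)), ?_⟩
    rw [Matrix.mulVec_add, Matrix.mulVec_smul, Matrix.mulVec_smul, hxx]
    simp only [sympForm_add_left, sympForm_add_right, sympForm_smul_left, sympForm_smul_right, hneg,
      sympForm_self, sympForm_skew (X *ᵥ u) u, ← hd_def]
    linear_combination d * hab + (mul_inv_cancel₀ hd) * (-1 : F)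
  obtain ⟨v, -, hv⟩ := hone ⊤ (fun _ _ => trivial) (by
    obtain ⟨t, ht⟩ := sympForm_nondeg' (v := Pi.single (Sum.inl (0 : Fin 2) : ι₄) (1 : F)) (fun h => by
      simpa using congrFun h (Sum.inl 0))
    exact ⟨_, trivial, t, trivial, ht⟩)
  let L : (ι₄ → F) →ₗ[F] F × F :=
    { toFun := fun w => (ω v w, ω (X *ᵥ v) w)
      map_add' := fun _ _ => Prod.ext (sympForm_add_right ..) (sympForm_add_right ..)
      map_smul' := fun _ _ => Prod.ext (sympForm_smul_right ..) (sympForm_smul_right ..) }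
  have hmem : ∀ w, w ∈ LinearMap.ker L ↔ ω v w = 0 ∧ ω (X *ᵥ v) w = 0 := fun w => by
    rw [LinearMap.mem_ker]; exact Prod.ext_iff
  have hinv : ∀ w ∈ LinearMap.ker L, X *ᵥ w ∈ LinearMap.ker L := by
    intro w hw
    rw [hmem] at hw ⊢
    refine ⟨?_, ?_⟩
    · rw [hsymm, sympForm_skew, hw.2, neg_zero]
    · rw [form_eq hx]; exact hw.1
  obtain ⟨w₀, hw₀, hw₀0⟩ := Submodule.exists_mem_ne_zero_of_ne_bot
    (LinearMap.ker_ne_bot_of_finrank_lt (f := L) (by simp))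
  obtain ⟨w, hw, hw1⟩ := hone (LinearMap.ker L) hinv (by
    obtain ⟨t, ht⟩ := sympForm_nondeg' hw₀0
    refine ⟨w₀, hw₀, t + (ω v t) • (X *ᵥ v) - (ω (X *ᵥ v) t) • v, ?_, ?_⟩
    · rw [hmem]
      simp only [sub_eq_add_neg, ← neg_smul, sympForm_add_right, sympForm_smul_right, sympForm_self, hv,
        sympForm_skew (X *ᵥ v) v]
      constructor <;> ring
    · obtain ⟨e1, e2⟩ := (hmem w₀).mp hw₀
      simp only [sub_eq_add_neg, ← neg_smul, sympForm_add_right, sympForm_smul_right,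
        sympForm_skew w₀ (X *ᵥ v), sympForm_skew w₀ v, e1, e2]
      simpa using ht)
  obtain ⟨e1, e2⟩ := (hmem w).mp hw
  obtain ⟨e3, e4⟩ := (hmem _).mp (hinv w hw)
  obtain ⟨P, hP, hPc⟩ := exists_of_frame ![v, w] ![X *ᵥ v, X *ᵥ w] e1 e4 hv hw1 e3 (by
    show ω w (X *ᵥ v) = 0
    rw [sympForm_skew, e2, neg_zero])
  refine ⟨P, hP, ?_⟩
  rw [hPc]
  refine mul_cols fun j => ?_
  rcases j with j | j
  · rw [show Matrix.J (Fin 2) F *ᵥ Pi.single (Sum.inl j) 1 = Pi.single (Sum.inr j) 1 by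
      ext (i | i) <;> simp [Matrix.J, Matrix.fromBlocks, Pi.single_apply, Matrix.one_apply], cols_single]
    fin_cases j <;> simp
  · rw [show Matrix.J (Fin 2) F *ᵥ Pi.single (Sum.inr j) 1 = -Pi.single (Sum.inl j) 1 by
      ext (i | i) <;> simp [Matrix.J, Matrix.fromBlocks, Pi.single_apply, Matrix.one_apply],
      Matrix.mulVec_neg, cols_single]
    fin_cases j <;> simp [hxx]

/-- Elements with the same scalar square are conjugate in the symplectic group. -/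
theorem conj_of_sq [Fintype F] (h2 : (2 : F) ≠ 0) {x y : GL ι₄ F} (hx : x ∈ spGL 2 F) (hy : y ∈ spGL 2 F)
    {c : F} (hc : c = 1 ∨ c = -1) (hx2 : (x : Matrix ι₄ ι₄ F) * x = c • 1)
    (hy2 : (y : Matrix ι₄ ι₄ F) * y = c • 1) (hxns : ∀ z : F, (x : Matrix ι₄ ι₄ F) ≠ z • 1)
    (hyns : ∀ z : F, (y : Matrix ι₄ ι₄ F) ≠ z • 1) : ∃ g ∈ spGL 2 F, g⁻¹ * x * g = y := by
  rcases hc with rfl | rfl
  · obtain ⟨P, hP, h⟩ := exists_frame_one h2 hx hx2 hxns
    obtain ⟨Q, hQ, h'⟩ := exists_frame_one h2 hy hy2 hyns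
    exact conj_of_frames hP hQ h h'
  · obtain ⟨P, hP, h⟩ := exists_frame_neg h2 hx hx2
    obtain ⟨Q, hQ, h'⟩ := exists_frame_neg h2 hy hy2
    exact conj_of_frames hP hQ h h'

end Cfsg.Agent.Lib.SympExtraFour
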