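import Cfsg.Agent.Lib.SympExtraFour.Basic
import Cfsg.Agent.S4413
import Cfsg.Prelude.Def_ClassicalGeometry

/-!
Elements of order five.
-/

set_option autoImplicit false
set_option linter.style.haveILetI false

namespace Cfsg.Agent.Lib.SympExtraFour

open Cfsg Cfsg.Geo Matrix

variable {F : Type*} [Field F]

local notation "ι₄" => (Fin 2 ⊕ Fin 2)

theorem transpose_mul_of_mem {h : GL ι₄ F} (hh : h ∈ spGL 2 F) :
    (h : Matrix ι₄ ι₄ F)ᵀ * Matrix.J (Fin 2) F * h = Matrix.J (Fin 2) F := by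
  ext i j
  have e := hh (Pi.single i 1) (Pi.single j 1)
  change ((h : Matrix ι₄ ι₄ F) *ᵥ Pi.single i 1) ⬝ᵥ (Matrix.J (Fin 2) F *ᵥ ((h : Matrix ι₄ ι₄ F) *ᵥ Pi.single j 1)) =
    (Pi.single i (1 : F)) ⬝ᵥ (Matrix.J (Fin 2) F *ᵥ Pi.single j 1) at e
  simp only [single_dotProduct, one_mul, Matrix.mulVec_single_one, Matrix.col_apply] at e
  rw [← e, Matrix.mul_assoc, Matrix.mul_apply]
  simp only [Matrix.transpose_apply, dotProduct, Matrix.mulVec, Matrix.mul_apply, Matrix.col_apply]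

theorem mem_of_transpose_mul {h : GL ι₄ F}
    (e : (h : Matrix ι₄ ι₄ F)ᵀ * Matrix.J (Fin 2) F * h = Matrix.J (Fin 2) F) : h ∈ spGL 2 F := by
  intro u v
  show ((h : Matrix ι₄ ι₄ F) *ᵥ u) ⬝ᵥ (Matrix.J (Fin 2) F *ᵥ ((h : Matrix ι₄ ι₄ F) *ᵥ v)) =
    u ⬝ᵥ (Matrix.J (Fin 2) F *ᵥ v)
  conv_rhs => rw [← e]
  rw [← Matrix.mulVec_mulVec, ← Matrix.mulVec_mulVec, Matrix.dotProduct_mulVec u, Matrix.vecMul_transpose]

variable {R : Subgroup (GL ι₄ F)}

namespace Data

/-- An automorphism of order five of the group is induced by an element of order five of `Sp₄`. -/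
theorem exists_five (D : Data R) (hsp : R ≤ spGL 2 F) :
    ∃ g ∈ spGL 2 F, g ∈ subgroupNormalizer R ∧ orderOf g = 5 := by
  classical
  haveI := D.finite
  haveI : Fintype R := Fintype.ofFinite R
  haveI : (MulAut.conj : R →* MulAut R).range.Normal := ⟨by
    rintro _ ⟨a, rfl⟩ σ
    exact ⟨σ a, MulEquiv.ext fun b => by simp [MulAut.mul_apply]⟩⟩
  -- an automorphism of order five
  obtain ⟨-, hcard, -⟩ := Cfsg.Agent.S4413.result D.isExtraspecial D.card
    (fun A hA => by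
      have h := D.minus A hA.1 fun x hx => by rw [← sq]; exact hA.2 x hx
      have hdvd : Nat.card A ∣ 2 ^ 5 := by
        have := Subgroup.card_subgroup_dvd_card A
        rwa [D.card] at this
      obtain ⟨k, -, hk⟩ := (Nat.dvd_prime_pow Nat.prime_two).mp hdvd
      rw [hk] at h ⊢
      have : k < 3 := (Nat.pow_lt_pow_iff_right (by norm_num : 1 < 2)).mp h
      exact (Nat.pow_le_pow_right (by norm_num) (by omega : k ≤ 2)).trans (by norm_num))
  haveI : Fact (Nat.Prime 5) := ⟨Nat.prime_five⟩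
  obtain ⟨φ, hφ⟩ := exists_prime_orderOf_dvd_card' (G := MulAut R) 5 (by rw [hcard]; norm_num)
  let m : R → Matrix ι₄ ι₄ F := fun a => ((a : GL ι₄ F) : Matrix ι₄ ι₄ F)
  -- an intertwiner
  let T : Matrix ι₄ ι₄ F → Matrix ι₄ ι₄ F := fun X => ∑ a : R, m (φ a) * X * m a⁻¹
  have hT : ∀ X (b : R), m (φ b) * T X = T X * m b := by
    intro X b
    simp only [T, Finset.mul_sum, Finset.sum_mul]
    refine Fintype.sum_equiv (Equiv.mulLeft b) _ _ fun a => ?_
    simp [m, mul_assoc]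
  have hone : ∀ a : R, (m (φ a)).trace * (m a⁻¹).trace =
      if (a : GL ι₄ F) = 1 ∨ (a : GL ι₄ F) = -1 then (16 : F) else 0 := by
    intro a
    by_cases hc : (a : GL ι₄ F) = 1 ∨ (a : GL ι₄ F) = -1
    · rw [if_pos hc]
      have hfix : φ a = a := by
        rcases hc with h | h
        · rw [show a = 1 from Subtype.ext h, map_one]
        · have ha : a = ⟨-1, D.neg_one_mem⟩ := Subtype.ext h
          have hmem : φ a ∈ Subgroup.center R := by
            rw [Subgroup.mem_center_iff]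
            intro y
            obtain ⟨y', rfl⟩ := φ.surjective y
            rw [← map_mul, ← map_mul,
              Subgroup.mem_center_iff.mp ((D.mem_center_iff a).mpr (Or.inr h)) y']
          rcases (D.mem_center_iff _).mp hmem with e | e
          · exfalso
            have : a = 1 := φ.injective (by rw [map_one]; exact Subtype.ext e)
            exact D.neg_ne_one (h.symm.trans (congrArg Subtype.val this))
          · exact Subtype.ext (e.trans h.symm)
      rw [hfix]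
      rcases hc with h | h
      · simp [m, h, Matrix.trace_one]; norm_num
      · simp [m, h, Matrix.trace_one, Matrix.trace_neg]; norm_num
    · rw [if_neg hc]
      have : (m a⁻¹).trace = 0 := D.trace_eq_zero (a⁻¹).2
        (fun h => hc (Or.inl (by simpa using h)))
        (fun h => hc (Or.inr (by rw [InvMemClass.coe_inv, inv_eq_iff_eq_inv] at h; simpa using h)))
      rw [this, mul_zero]
  obtain ⟨X, hX⟩ : ∃ X, T X ≠ 0 := by
    by_contra hc
    push Not at hc
    have hsum : ∑ a : R, (m (φ a)).trace * (m a⁻¹).trace = 0 := by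
      have : ∀ i j : ι₄, ∑ a : R, m (φ a) i i * m a⁻¹ j j = 0 := fun i j => by
        have h := congrFun (congrFun (hc (Matrix.single i j 1)) i) j
        simp only [T, Matrix.sum_apply, Matrix.zero_apply] at h
        rw [← h]
        refine Finset.sum_congr rfl fun a _ => ?_
        rw [Matrix.mul_apply, Finset.sum_eq_single j]
        · rw [Matrix.mul_apply, Finset.sum_eq_single i]
          · simp
          · intro k _ hk; simp [Matrix.single_apply, hk.symm]
          · simp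
        · intro k _ hk
          rw [Matrix.mul_apply]
          simp [Matrix.single_apply, Ne.symm hk]
        · simp
      simp only [Matrix.trace, Matrix.diag_apply, Finset.sum_mul, Finset.mul_sum]
      rw [Finset.sum_comm]
      refine Finset.sum_eq_zero fun i _ => ?_
      rw [Finset.sum_comm]
      exact Finset.sum_eq_zero fun j _ => this j i
    rw [Finset.sum_congr rfl (fun a _ => hone a), Finset.sum_ite, Finset.sum_const_zero, add_zero,
      Finset.sum_const, nsmul_eq_mul] at hsum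
    have h2 : (Finset.univ.filter fun a : R => (a : GL ι₄ F) = 1 ∨ (a : GL ι₄ F) = -1).card = 2 := by
      have : (Finset.univ.filter fun a : R => (a : GL ι₄ F) = 1 ∨ (a : GL ι₄ F) = -1) =
          {1, ⟨-1, D.neg_one_mem⟩} := by
        ext a
        simp only [Finset.mem_filter, Finset.mem_univ, true_and, Finset.mem_insert, Finset.mem_singleton]
        exact or_congr ⟨fun e => Subtype.ext e, fun e => congrArg Subtype.val e⟩
          ⟨fun e => Subtype.ext e, fun e => congrArg Subtype.val e⟩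
      rw [this, Finset.card_pair]
      exact fun e => D.neg_ne_one (congrArg Subtype.val e).symm
    rw [h2] at hsum
    have : (2 : F) ^ 5 = 0 := by push_cast at hsum; linear_combination hsum
    exact D.two_ne (pow_eq_zero_iff (by norm_num) |>.mp this)
  -- it is invertible
  have hdet : (T X).det ≠ 0 := by
    intro h0
    obtain ⟨v, hv, hv0⟩ := Matrix.exists_mulVec_eq_zero_iff.mpr h0
    let W : Submodule F (ι₄ → F) := LinearMap.ker (Matrix.mulVecLin (T X))
    have hW : W = ⊥ ∨ W = ⊤ := D.irr.1 W (by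
      rintro s ⟨a, ha, rfl⟩
      rw [Submodule.map_le_iff_le_comap]
      intro w hw
      simp only [Submodule.mem_comap, Matrix.toLin'_apply, W, LinearMap.mem_ker, Matrix.mulVecLin_apply] at hw ⊢
      rw [Matrix.mulVec_mulVec]
      have := hT X ⟨a, ha⟩
      change m (φ ⟨a, ha⟩) * T X = T X * (a : Matrix ι₄ ι₄ F) at this
      rw [← this, ← Matrix.mulVec_mulVec, hw, Matrix.mulVec_zero])
    rcases hW with hW | hW
    · exact hv ((Submodule.eq_bot_iff W).mp hW v (by simpa [W] using hv0))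
    · apply hX
      refine Matrix.ext_of_mulVec_single fun k => ?_
      have : Pi.single k (1 : F) ∈ W := hW ▸ Submodule.mem_top
      rw [Matrix.zero_mulVec]
      simpa [W] using this
  set h : GL ι₄ F := GeneralLinearGroup.mkOfDetNeZero (T X) hdet with hhdef
  have hconj : ∀ a : R, h * (a : GL ι₄ F) = (φ a : GL ι₄ F) * h := fun a =>
    Units.ext (hT X a).symm
  have hpow : ∀ (n : ℕ) (a : R), h ^ n * (a : GL ι₄ F) = ((φ ^ n) a : GL ι₄ F) * h ^ n := by
    intro n
    induction n with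
    | zero => intro a; simp
    | succ n ih =>
      intro a
      rw [pow_succ', mul_assoc, ih, ← mul_assoc, hconj, mul_assoc, pow_succ' φ]
      rfl
  obtain ⟨l, hl⟩ := D.scalar_of_commute (M := ((h ^ 5 : GL ι₄ F) : Matrix ι₄ ι₄ F)) fun a ha => by
    have := hpow 5 ⟨a, ha⟩
    rw [← hφ, pow_orderOf_eq_one] at this
    rw [hφ] at this
    exact congrArg Units.val this
  -- it is a similitude
  set J := Matrix.J (Fin 2) F with hJ
  set G := (h : Matrix ι₄ ι₄ F)ᵀ * J * h with hG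
  have hJJ : J * J = -1 := Matrix.J_squared _ _
  obtain ⟨c, hc⟩ := D.scalar_of_commute (M := -J * G) fun a ha => by
    have e1 := transpose_mul_of_mem (hsp (φ ⟨a, ha⟩).2)
    have e2 : (h : Matrix ι₄ ι₄ F) * (a : Matrix ι₄ ι₄ F) = ((φ ⟨a, ha⟩ : GL ι₄ F) : Matrix ι₄ ι₄ F) * (h : Matrix ι₄ ι₄ F) :=
      congrArg Units.val (hconj ⟨a, ha⟩)
    have e3 : (a : Matrix ι₄ ι₄ F)ᵀ * G * (a : Matrix ι₄ ι₄ F) = G := by
      calc (a : Matrix ι₄ ι₄ F)ᵀ * G * (a : Matrix ι₄ ι₄ F) = ((h : Matrix ι₄ ι₄ F) * (a : Matrix ι₄ ι₄ F))ᵀ * J * ((h : Matrix ι₄ ι₄ F) * (a : Matrix ι₄ ι₄ F)) := by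
            rw [hG, Matrix.transpose_mul]; simp only [Matrix.mul_assoc]
        _ = (h : Matrix ι₄ ι₄ F)ᵀ * (((φ ⟨a, ha⟩ : GL ι₄ F) : Matrix ι₄ ι₄ F)ᵀ * J *
              ((φ ⟨a, ha⟩ : GL ι₄ F) : Matrix ι₄ ι₄ F)) * (h : Matrix ι₄ ι₄ F) := by
            rw [e2, Matrix.transpose_mul]; simp only [Matrix.mul_assoc]
        _ = G := by rw [e1]
    have ea := transpose_mul_of_mem (hsp ha)
    rw [← hJ] at ea
    -- multiply both relations by the inverse of `aᵀ`
    have hinv : (((a⁻¹ : GL ι₄ F) : Matrix ι₄ ι₄ F))ᵀ * (a : Matrix ι₄ ι₄ F)ᵀ = 1 := by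
      rw [← Matrix.transpose_mul, ← Units.val_mul, mul_inv_cancel, Units.val_one, Matrix.transpose_one]
    have hinv' : (a : Matrix ι₄ ι₄ F) * ((a⁻¹ : GL ι₄ F) : Matrix ι₄ ι₄ F) = 1 := by
      rw [← Units.val_mul, mul_inv_cancel, Units.val_one]
    have hJa : J * a = (((a⁻¹ : GL ι₄ F) : Matrix ι₄ ι₄ F))ᵀ * J := by
      conv_rhs => rw [← ea]
      simp only [← Matrix.mul_assoc, hinv, Matrix.one_mul]
    have hGa : G * a = (((a⁻¹ : GL ι₄ F) : Matrix ι₄ ι₄ F))ᵀ * G := by
      conv_rhs => rw [← e3]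
      simp only [← Matrix.mul_assoc, hinv, Matrix.one_mul]
    have hJ' : J * (((a⁻¹ : GL ι₄ F) : Matrix ι₄ ι₄ F))ᵀ = (a : Matrix ι₄ ι₄ F) * J := by
      have h1 : J * (J * (a : Matrix ι₄ ι₄ F)) * J = J * ((((a⁻¹ : GL ι₄ F) : Matrix ι₄ ι₄ F))ᵀ * J) * J := by
        rw [hJa]
      have h2 : J * (J * (a : Matrix ι₄ ι₄ F)) * J = -((a : Matrix ι₄ ι₄ F) * J) := by
        rw [← Matrix.mul_assoc J J, hJJ, Matrix.neg_mul, Matrix.one_mul, Matrix.neg_mul]
      have h3 : J * ((((a⁻¹ : GL ι₄ F) : Matrix ι₄ ι₄ F))ᵀ * J) * J = -(J * (((a⁻¹ : GL ι₄ F) : Matrix ι₄ ι₄ F))ᵀ) := by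
        rw [Matrix.mul_assoc, Matrix.mul_assoc, hJJ, Matrix.mul_neg, Matrix.mul_one, Matrix.mul_neg]
      rw [h2, h3] at h1
      exact (neg_injective h1).symm
    calc -J * G * a = -(J * (G * a)) := by simp only [Matrix.neg_mul, Matrix.mul_assoc]
      _ = -((a : Matrix ι₄ ι₄ F) * J * G) := by rw [hGa, ← Matrix.mul_assoc, hJ']
      _ = (a : Matrix ι₄ ι₄ F) * (-J * G) := by simp only [Matrix.neg_mul, Matrix.mul_neg, Matrix.mul_assoc]
  have hGc : G = c • J := by
    have : J * (-J * G) = J * (c • 1) := by rw [hc]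
    rwa [← Matrix.mul_assoc, Matrix.mul_neg, hJJ, neg_neg, Matrix.one_mul, Matrix.mul_smul, Matrix.mul_one] at this
  have hJ0 : J ≠ 0 := by
    intro h0
    have := congrFun (congrFun h0 (Sum.inr (0 : Fin 2))) (Sum.inl (0 : Fin 2))
    simp [hJ, Matrix.J, Matrix.fromBlocks] at this
  have hc0 : c ≠ 0 := by
    intro h0
    rw [h0, zero_smul, hG] at hGc
    have hd := congrArg Matrix.det hGc
    rw [Matrix.det_mul, Matrix.det_mul, Matrix.det_transpose, Matrix.det_zero (n := ι₄)] at hd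
    rcases mul_eq_zero.mp hd with h1 | h1
    · rcases mul_eq_zero.mp h1 with h1 | h1
      · exact hdet h1
      · exact (Matrix.isUnit_det_J (Fin 2) F).ne_zero h1
    · exact hdet h1
  have hpowG : ∀ n : ℕ, ((h ^ n : GL ι₄ F) : Matrix ι₄ ι₄ F)ᵀ * J * ((h ^ n : GL ι₄ F) : Matrix ι₄ ι₄ F) = c ^ n • J := by
    intro n
    induction n with
    | zero => simp
    | succ n ih =>
      rw [pow_succ, Units.val_mul, Matrix.transpose_mul,
        show ((h : Matrix ι₄ ι₄ F))ᵀ * ((h ^ n : GL ι₄ F) : Matrix ι₄ ι₄ F)ᵀ * J *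
          (((h ^ n : GL ι₄ F) : Matrix ι₄ ι₄ F) * h) = (h : Matrix ι₄ ι₄ F)ᵀ *
          (((h ^ n : GL ι₄ F) : Matrix ι₄ ι₄ F)ᵀ * J * ((h ^ n : GL ι₄ F) : Matrix ι₄ ι₄ F)) * h by
        simp only [Matrix.mul_assoc], ih, Matrix.mul_smul, Matrix.smul_mul, ← hG, hGc, smul_smul, pow_succ]
  have hlc : l ^ 2 = c ^ 5 := by
    have := hpowG 5
    rw [hl, Matrix.transpose_smul, Matrix.transpose_one, Matrix.smul_mul, Matrix.one_mul, Matrix.mul_smul,
      Matrix.mul_one, smul_smul] at this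
    have := sub_eq_zero.mpr this
    rw [← sub_smul, smul_eq_zero] at this
    rw [sq]
    exact sub_eq_zero.mp (this.resolve_right hJ0)
  have hl0 : l ≠ 0 := by
    intro h0
    rw [h0] at hlc
    rw [zero_pow two_ne_zero] at hlc
    exact hc0 ((pow_eq_zero_iff (n := 5) (by norm_num)).mp hlc.symm)
  -- rescale
  set s : F := c ^ 2 * l⁻¹ with hs
  have hs0 : s ≠ 0 := mul_ne_zero (pow_ne_zero 2 hc0) (inv_ne_zero hl0)
  have hs2 : s ^ 2 * c = 1 := by
    rw [hs, mul_pow, inv_pow, mul_assoc, mul_comm (l ^ 2)⁻¹, ← mul_assoc, ← pow_mul, ← pow_succ, hlc]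
    exact mul_inv_cancel₀ (pow_ne_zero _ hc0)
  have hs5 : s ^ 5 * l = 1 := by
    have hl4 : l ^ 4 = c ^ 10 := by rw [show l ^ 4 = (l ^ 2) ^ 2 by ring, hlc]; ring
    rw [hs, mul_pow, ← pow_mul, inv_pow, mul_assoc, show (2 * 5 : ℕ) = 10 by norm_num, ← hl4,
      show l ^ 5 = l ^ 4 * l by ring, _root_.mul_inv_rev]
    field_simp
  have hdet' : (s • (h : Matrix ι₄ ι₄ F)).det ≠ 0 := by
    rw [Matrix.det_smul]; exact mul_ne_zero (pow_ne_zero _ hs0) hdet
  set g : GL ι₄ F := GeneralLinearGroup.mkOfDetNeZero (s • (h : Matrix ι₄ ι₄ F)) hdet' with hgdef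
  have hgval : (g : Matrix ι₄ ι₄ F) = s • (h : Matrix ι₄ ι₄ F) := rfl
  have hgconj : ∀ a : R, g * (a : GL ι₄ F) = (φ a : GL ι₄ F) * g := fun a => by
    apply Units.ext
    rw [Units.val_mul, Units.val_mul, hgval, Matrix.smul_mul, Matrix.mul_smul, ← Units.val_mul, hconj,
      Units.val_mul]
  refine ⟨g, mem_of_transpose_mul ?_, ?_, ?_⟩
  · rw [hgval, Matrix.transpose_smul, Matrix.smul_mul, Matrix.smul_mul, Matrix.mul_smul, ← hG, hGc, smul_smul,
      smul_smul, ← sq, hs2, one_smul]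
  · rw [subgroupNormalizer, Subgroup.mem_normalizer_iff]
    intro a
    constructor
    · intro ha
      rw [hgconj ⟨a, ha⟩, mul_inv_cancel_right]
      exact (φ _).2
    · intro ha
      obtain ⟨b, hb⟩ := φ.surjective ⟨_, ha⟩
      have e := hgconj b
      rw [hb] at e
      have : g * (b : GL ι₄ F) = g * a := by rw [e]; simp [mul_assoc]
      exact (mul_left_cancel this) ▸ b.2
  · refine orderOf_eq_prime ?_ ?_
    · apply Units.ext
      rw [Units.val_pow_eq_pow_val, hgval, _root_.smul_pow, ← Units.val_pow_eq_pow_val, hl, smul_smul, hs5,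
        one_smul, Units.val_one]
    · intro h1
      have : φ = 1 := MulEquiv.ext fun a => Subtype.ext (by simpa [h1] using (hgconj a).symm)
      rw [this, orderOf_one] at hφ
      norm_num at hφ

end Data

/-- Fixed-point-free elements of order five cannot generate an elementary group of order 25. -/
theorem mem_zpowers_of_commute (h5 : (5 : F) ≠ 0) {x y : GL ι₄ F} (hxy : Commute x y) (hy5 : y ^ 5 = 1)
    (hfpf : ∀ a : GL ι₄ F, a ≠ 1 → a ^ 5 = 1 → a ∈ Subgroup.closure {x, y} →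
      ∀ v : ι₄ → F, (a : Matrix ι₄ ι₄ F) *ᵥ v = v → v = 0)
    (hx5 : x ^ 5 = 1) (hy1 : y ≠ 1) : x ∈ Subgroup.zpowers y := by
  classical
  by_contra hx
  have hsum : ∀ a : GL ι₄ F, a ≠ 1 → a ^ 5 = 1 → a ∈ Subgroup.closure {x, y} →
      ∑ i ∈ Finset.range 5, (a : Matrix ι₄ ι₄ F) ^ i = 0 := by
    intro a ha ha5 hmem
    refine Matrix.ext_of_mulVec_single fun k => ?_
    rw [Matrix.zero_mulVec]
    apply hfpf a ha ha5 hmem
    rw [Matrix.mulVec_mulVec, Finset.mul_sum]
    congr 1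
    have hA : (a : Matrix ι₄ ι₄ F) ^ 5 = 1 := by rw [← Units.val_pow_eq_pow_val, ha5, Units.val_one]
    simp only [Finset.sum_range_succ, Finset.sum_range_zero, ← pow_succ', Nat.reduceAdd, hA]
    simp only [pow_zero]
    abel
  have hmx : x ∈ Subgroup.closure {x, y} := Subgroup.subset_closure (Or.inl rfl)
  have hmy : y ∈ Subgroup.closure {x, y} := Subgroup.subset_closure (Or.inr rfl)
  have hyz := hsum y hy1 hy5 hmy
  have hprod : ∀ j : ℕ, ∑ i ∈ Finset.range 5, ((x * y ^ j : GL ι₄ F) : Matrix ι₄ ι₄ F) ^ i = 0 := by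
    intro j
    refine hsum _ (fun h => hx ?_) ?_ (mul_mem hmx (pow_mem hmy j))
    · rw [eq_inv_of_mul_eq_one_left h]
      exact inv_mem (pow_mem (Subgroup.mem_zpowers y) j)
    · rw [(hxy.pow_right j).mul_pow, hx5, ← pow_mul, mul_comm, pow_mul, hy5, one_pow, mul_one]
  set X := (x : Matrix ι₄ ι₄ F) with hX
  set Y := (y : Matrix ι₄ ι₄ F) with hY
  have hXY : Commute X Y := congrArg Units.val hxy.eq
  have hY5 : Y ^ 5 = 1 := by rw [hY, ← Units.val_pow_eq_pow_val, hy5, Units.val_one]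
  have htot : ∑ j ∈ Finset.range 5, ∑ i ∈ Finset.range 5, X ^ i * Y ^ (j * i) = 0 := by
    refine Finset.sum_eq_zero fun j _ => ?_
    rw [← hprod j]
    refine Finset.sum_congr rfl fun i _ => ?_
    rw [Units.val_mul, Units.val_pow_eq_pow_val, (hXY.pow_right j).mul_pow, ← pow_mul]
  rw [Finset.sum_comm] at htot
  have hrow : ∀ i ∈ Finset.range 5, ∑ j ∈ Finset.range 5, X ^ i * Y ^ (j * i) =
      if i = 0 then (5 : F) • (1 : Matrix ι₄ ι₄ F) else 0 := by
    intro i hi
    rw [← Finset.mul_sum]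
    simp only [Finset.mem_range] at hi
    have h6 : ∀ a b : ℕ, a % 5 = b % 5 → Y ^ a = Y ^ b := fun a b hab => by
      rw [pow_eq_pow_mod a hY5, pow_eq_pow_mod b hY5, hab]
    have hz : (1 : Matrix ι₄ ι₄ F) + Y + Y ^ 2 + Y ^ 3 + Y ^ 4 = 0 := by
      rw [← hyz]; simp [Finset.sum_range_succ, hY]
    simp only [Finset.sum_range_succ, Finset.sum_range_zero, zero_add]
    interval_cases i
    · simp only [mul_zero, pow_zero, mul_one, if_true]
      rw [show ((5 : F) • (1 : Matrix ι₄ ι₄ F)) = (5 : ℕ) • (1 : Matrix ι₄ ι₄ F) by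
        rw [← Nat.cast_smul_eq_nsmul F]; norm_num]
      simp only [succ_nsmul, zero_nsmul, zero_add, mul_one, one_mul]
    · rw [if_neg (by norm_num)]
      simp only [mul_one, pow_zero, pow_one, hz, mul_zero]
    · rw [if_neg (by norm_num), h6 (3 * 2) 1 rfl, h6 (4 * 2) 3 rfl, pow_one,
        show (1 : ℕ) * 2 = 2 from rfl, show 2 * 2 = 4 from rfl, zero_mul, pow_zero,
        show (1 : Matrix ι₄ ι₄ F) + Y ^ 2 + Y ^ 4 + Y + Y ^ 3 = 1 + Y + Y ^ 2 + Y ^ 3 + Y ^ 4 by abel, hz,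
        mul_zero]
    · rw [if_neg (by norm_num), h6 (2 * 3) 1 rfl, h6 (3 * 3) 4 rfl, h6 (4 * 3) 2 rfl, pow_one,
        show (1 : ℕ) * 3 = 3 from rfl, zero_mul, pow_zero,
        show (1 : Matrix ι₄ ι₄ F) + Y ^ 3 + Y + Y ^ 4 + Y ^ 2 = 1 + Y + Y ^ 2 + Y ^ 3 + Y ^ 4 by abel, hz,
        mul_zero]
    · rw [if_neg (by norm_num), h6 (2 * 4) 3 rfl, h6 (3 * 4) 2 rfl, h6 (4 * 4) 1 rfl, pow_one,
        show (1 : ℕ) * 4 = 4 from rfl, zero_mul, pow_zero,
        show (1 : Matrix ι₄ ι₄ F) + Y ^ 4 + Y ^ 3 + Y ^ 2 + Y = 1 + Y + Y ^ 2 + Y ^ 3 + Y ^ 4 by abel, hz,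
        mul_zero]
  rw [Finset.sum_congr rfl hrow, Finset.sum_ite_eq' (Finset.range 5) 0, if_pos (by norm_num)] at htot
  exact h5 (by simpa using congrFun (congrFun htot (Sum.inl 0)) (Sum.inl 0))

/-- Multiplicative order four modulo five forces fixed-point freeness. -/
theorem fpf_of_order_four [Fintype F] {p : ℕ} (hF : Fintype.card F = p) (hp : orderOf (p : ZMod 5) = 4)
    {a : GL ι₄ F} (ha5 : a ^ 5 = 1) (ha1 : a ≠ 1) (v : ι₄ → F) (hv : (a : Matrix ι₄ ι₄ F) *ᵥ v = v) : v = 0 := by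
  classical
  haveI : Fact (Nat.Prime 5) := ⟨Nat.prime_five⟩
  let W : Submodule F (ι₄ → F) := LinearMap.ker (Matrix.mulVecLin ((a : Matrix ι₄ ι₄ F) - 1))
  have hW : ∀ w, w ∈ W ↔ (a : Matrix ι₄ ι₄ F) *ᵥ w = w := fun w => by
    simp [W, Matrix.sub_mulVec, sub_eq_zero]
  let f : Function.End (ι₄ → F) := fun w => (a : Matrix ι₄ ι₄ F) *ᵥ w
  have hiter : ∀ (n : ℕ) (w : ι₄ → F), (f ^ n) w = ((a ^ n : GL ι₄ F) : Matrix ι₄ ι₄ F) *ᵥ w := by
    intro n
    induction n with
    | zero => intro w; simp; rfl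
    | succ n ih =>
      intro w
      rw [pow_succ', pow_succ' a]
      show (a : Matrix ι₄ ι₄ F) *ᵥ ((f ^ n) w) = _
      rw [ih, Matrix.mulVec_mulVec, Units.val_mul]
  have hf : f ^ 5 ^ 1 = 1 := by
    funext w; rw [pow_one, hiter, ha5, Units.val_one, Matrix.one_mulVec]; rfl
  have h := Equiv.Perm.card_fixedPoints_modEq hf
  rw [← Nat.card_eq_fintype_card, ← Nat.card_eq_fintype_card] at h
  have hfix : Nat.card f.fixedPoints = Nat.card W :=
    Nat.card_congr (Equiv.subtypeEquivRight fun w => (hW w).symm)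
  rw [hfix, Module.natCard_eq_pow_finrank (K := F), Module.natCard_eq_pow_finrank (K := F) (V := W),
    Module.finrank_pi, Nat.card_eq_fintype_card, hF] at h
  have hz : ((p : ZMod 5)) ^ Fintype.card ι₄ = (p : ZMod 5) ^ Module.finrank F W := by
    exact_mod_cast (ZMod.natCast_eq_natCast_iff _ _ 5).mpr h
  have h4 : (p : ZMod 5) ^ 4 = 1 := by rw [← hp]; exact pow_orderOf_eq_one _
  rw [show Fintype.card ι₄ = 4 by simp, h4] at hz
  have hd := orderOf_dvd_of_pow_eq_one hz.symm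
  rw [hp] at hd
  have hle : Module.finrank F W ≤ 4 := by
    have := Submodule.finrank_le W
    simpa using this
  rcases (by omega : Module.finrank F W = 0 ∨ Module.finrank F W = 4) with h0 | h0
  · rw [Submodule.finrank_eq_zero] at h0
    exact (Submodule.eq_bot_iff W).mp h0 v ((hW v).mpr hv)
  · exfalso
    have : W = ⊤ := Submodule.eq_top_of_finrank_eq (by rw [h0]; simp)
    apply ha1
    apply Units.ext
    refine Matrix.ext_of_mulVec_single fun k => ?_
    rw [Units.val_one, Matrix.one_mulVec]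
    exact (hW _).mp (this ▸ Submodule.mem_top)

end Cfsg.Agent.Lib.SympExtraFour
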