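import Cfsg.Agent.Lib.SympExtraFour.Basic

/-!
Elements of odd prime order normalising the group of order 32 and minus type.
-/

set_option autoImplicit false
set_option linter.style.haveILetI false

namespace Cfsg.Agent.Lib.SympExtraFour

open Cfsg Cfsg.Geo Matrix

variable {ι : Type} [Fintype ι] [DecidableEq ι] {F : Type*} [Field F] {R : Subgroup (GL ι F)}

/-- The fixed points in `R` of conjugation by `g`. -/
def fix (R : Subgroup (GL ι F)) (g : GL ι F) : Subgroup R :=
  (Subgroup.centralizer ({g} : Set (GL ι F))).subgroupOf R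

theorem mem_fix {g : GL ι F} (a : R) : a ∈ fix R g ↔ g * (a : GL ι F) = a * g := by
  rw [fix, Subgroup.mem_subgroupOf, Subgroup.mem_centralizer_singleton_iff]
  exact eq_comm

theorem pow_conj_eq {g a : GL ι F} (h : g * a * g⁻¹ = -a) : ∀ n : ℕ, g ^ n * a * (g ^ n)⁻¹ = (-1) ^ n * a := by
  intro n
  induction n with
  | zero => simp
  | succ n ih =>
    calc g ^ (n + 1) * a * (g ^ (n + 1))⁻¹ = g * (g ^ n * a * (g ^ n)⁻¹) * g⁻¹ := by
          rw [pow_succ', _root_.mul_inv_rev]; simp only [mul_assoc]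
      _ = g * ((-1) ^ n * a) * g⁻¹ := by rw [ih]
      _ = (-1) ^ n * (g * a * g⁻¹) := by
          rcases neg_one_pow_eq_or (GL ι F) n with e | e <;> rw [e] <;> simp
      _ = (-1) ^ (n + 1) * a := by rw [h, pow_succ]; simp

namespace Data

variable {r : ℕ}

/-- An element of odd order negates nothing. -/
theorem conj_ne_neg (D : Data R) (hr : Odd r) {g : GL ι F} (hg : g ^ r = 1) (a : GL ι F) :
    g * a * g⁻¹ ≠ -a := by
  intro h
  have h' := pow_conj_eq h r
  rw [hg, one_mul, inv_one, mul_one, hr.neg_one_pow, neg_one_mul] at h'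
  have := congrArg (fun x => x * a⁻¹) h'
  simp [neg_mul] at this
  exact D.neg_ne_one this.symm

theorem card_fix_cases (D : Data R) {g : GL ι F} :
    ∃ k ≤ 5, 1 ≤ k ∧ Nat.card (fix R g) = 2 ^ k := by
  haveI := D.finite
  have hdvd : Nat.card (fix R g) ∣ 2 ^ 5 := by
    have := Subgroup.card_subgroup_dvd_card (fix R g)
    rwa [D.card] at this
  obtain ⟨k, hk, hkc⟩ := (Nat.dvd_prime_pow Nat.prime_two).mp hdvd
  refine ⟨k, hk, ?_, hkc⟩
  rcases Nat.eq_zero_or_pos k with rfl | h
  · exfalso
    rw [pow_zero, Subgroup.card_eq_one] at hkc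
    have hmem : (⟨-1, D.neg_one_mem⟩ : R) ∈ fix R g := by rw [mem_fix]; simp
    rw [hkc, Subgroup.mem_bot] at hmem
    exact D.neg_ne_one (congrArg Subtype.val hmem)
  · exact h

/-- Orbit counting on an invariant subset. -/
theorem card_modEq (D : Data R) [Fact r.Prime] {g : GL ι F} (hg : g ^ r = 1)
    (hN : g ∈ subgroupNormalizer R) (P : R → Prop)
    (hP : ∀ a : R, P a → P ⟨g * a * g⁻¹, (Subgroup.mem_normalizer_iff.mp hN a).mp a.2⟩) :
    Nat.card {a : R // P a} ≡ Nat.card {a : R // P a ∧ g * (a : GL ι F) = a * g} [MOD r] := by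
  classical
  haveI := D.finite
  haveI : Fintype R := Fintype.ofFinite R
  let f : Function.End {a : R // P a} := fun a => ⟨⟨g * (a.1 : GL ι F) * g⁻¹,
    (Subgroup.mem_normalizer_iff.mp hN a.1).mp a.1.2⟩, hP a.1 a.2⟩
  have hiter : ∀ (n : ℕ) (a : {a : R // P a}), (((f ^ n) a).1 : GL ι F) = g ^ n * a.1 * (g ^ n)⁻¹ := by
    intro n
    induction n with
    | zero => intro a; simp; rfl
    | succ n ih =>
      intro a
      rw [pow_succ']
      show g * (((f ^ n) a).1 : GL ι F) * g⁻¹ = _
      rw [ih, pow_succ', _root_.mul_inv_rev]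
      simp only [mul_assoc]
  have hf : f ^ r ^ 1 = 1 := by
    funext a
    rw [pow_one]
    apply Subtype.ext
    apply Subtype.ext
    rw [hiter, hg, one_mul, inv_one, mul_one]
    rfl
  have h := Equiv.Perm.card_fixedPoints_modEq hf
  rw [← Nat.card_eq_fintype_card, ← Nat.card_eq_fintype_card] at h
  refine h.trans (congrArg (· % r) (Nat.card_congr ?_))
  refine (Equiv.subtypeEquivRight fun a => ?_).trans
    (Equiv.subtypeSubtypeEquivSubtypeInter P fun a : R => g * (a : GL ι F) = a * g)
  constructor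
  · intro e
    have e' : g * (a.1 : GL ι F) * g⁻¹ = a.1 := congrArg (fun x : {a : R // P a} => ((x.1 : R) : GL ι F)) e
    exact mul_inv_eq_iff_eq_mul.mp e'
  · intro e
    exact Subtype.ext (Subtype.ext (mul_inv_eq_iff_eq_mul.mpr e))

/-- The size of the fixed subgroup is congruent to 32. -/
theorem card_fix_modEq (D : Data R) [Fact r.Prime] {g : GL ι F} (hg : g ^ r = 1)
    (hN : g ∈ subgroupNormalizer R) : 32 ≡ Nat.card (fix R g) [MOD r] := by
  have h := D.card_modEq hg hN (fun _ => True) (fun _ _ => trivial)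
  rw [Nat.card_congr (Equiv.subtypeUnivEquiv fun _ => trivial), D.card] at h
  refine h.trans (congrArg (· % r) (Nat.card_congr ?_))
  exact Equiv.subtypeEquivRight fun a => by simp [mem_fix]

/-- The noncentral involutions. -/
def IsInv (a : R) : Prop := a * a = 1 ∧ (a : GL ι F) ≠ 1 ∧ (a : GL ι F) ≠ -1

theorem card_isInv (D : Data R) : Nat.card {a : R // IsInv a} = 10 := by
  classical
  haveI := D.finite
  haveI : Fintype R := Fintype.ofFinite R
  have h := D.card_sq_one
  rw [Nat.card_eq_fintype_card, Fintype.card_subtype] at h ⊢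
  have hsub : Finset.univ.filter (fun a : R => IsInv a) =
      (Finset.univ.filter fun a : R => a ^ 2 = 1) \ {1, ⟨-1, D.neg_one_mem⟩} := by
    ext a
    simp only [Finset.mem_filter, Finset.mem_univ, true_and, Finset.mem_sdiff, Finset.mem_insert,
      Finset.mem_singleton, not_or, sq]
    constructor
    · rintro ⟨h1, h2, h3⟩
      exact ⟨h1, fun e => h2 (congrArg Subtype.val e), fun e => h3 (congrArg Subtype.val e)⟩
    · rintro ⟨h1, h2, h3⟩
      exact ⟨h1, fun e => h2 (Subtype.ext e), fun e => h3 (Subtype.ext e)⟩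
  rw [hsub, Finset.card_sdiff_of_subset, h, Finset.card_pair]
  · exact fun e => D.neg_ne_one (congrArg Subtype.val e).symm
  · intro a ha
    rcases Finset.mem_insert.mp ha with rfl | ha
    · simp
    · rw [Finset.mem_singleton] at ha
      subst ha
      simp [sq, Subtype.ext_iff]

/-- If at least sixteen elements are fixed then all are. -/
theorem fix_eq_top (D : Data R) (hr : Odd r) [Fact r.Prime] {g : GL ι F} (hg : g ^ r = 1)
    (hN : g ∈ subgroupNormalizer R) (h16 : 16 ≤ Nat.card (fix R g)) : fix R g = ⊤ := by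
  haveI := D.finite
  obtain ⟨k, hk, -, hkc⟩ := D.card_fix_cases (g := g)
  rw [hkc] at h16
  have hk4 : 4 ≤ k := by
    by_contra h
    have := Nat.pow_le_pow_right (by norm_num : 1 ≤ 2) (show k ≤ 3 by omega)
    omega
  by_cases h5 : k = 5
  · exact Subgroup.eq_top_of_card_eq _ (by rw [hkc, h5, D.card]; norm_num)
  exfalso
  have hk' : k = 4 := by omega
  have hi : (fix R g).index = 2 := by
    have := (fix R g).card_mul_index
    rw [hkc, hk', D.card] at this
    omega
  obtain ⟨a, ha⟩ : ∃ a : R, a ∉ fix R g := by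
    by_contra hc
    push Not at hc
    rw [show fix R g = ⊤ from eq_top_iff.mpr fun x _ => hc x, Subgroup.index_top] at hi
    omega
  let a' : R := ⟨g * a * g⁻¹, (Subgroup.mem_normalizer_iff.mp hN a).mp a.2⟩
  have ha' : a' ∉ fix R g := by
    intro h
    apply ha
    rw [mem_fix] at h ⊢
    have h' : g * (g * (a : GL ι F) * g⁻¹) = (g * (a : GL ι F) * g⁻¹) * g := h
    rw [inv_mul_cancel_right, mul_assoc g (a : GL ι F) g⁻¹] at h'
    have h'' : g * ((a : GL ι F) * g⁻¹) = a := mul_left_cancel h'
    rw [← mul_assoc] at h''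
    exact mul_inv_eq_iff_eq_mul.mp h''
  have hc : a' * a⁻¹ ∈ fix R g := by
    rw [Subgroup.mul_mem_iff_of_index_two hi]
    simp [ha, ha']
  set c : GL ι F := ((a' * a⁻¹ : R) : GL ι F) with hcdef
  have hgc : g * c = c * g := (mem_fix _).mp hc
  have hga : g * (a : GL ι F) * g⁻¹ = c * a := by simp [hcdef, a', mul_assoc]
  have hpow : ∀ n : ℕ, g ^ n * (a : GL ι F) * (g ^ n)⁻¹ = c ^ n * a := by
    intro n
    induction n with
    | zero => simp
    | succ n ih =>
      calc g ^ (n + 1) * (a : GL ι F) * (g ^ (n + 1))⁻¹ = g * (g ^ n * a * (g ^ n)⁻¹) * g⁻¹ := by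
            rw [pow_succ', _root_.mul_inv_rev]; simp only [mul_assoc]
        _ = g * (c ^ n * a) * g⁻¹ := by rw [ih]
        _ = c ^ n * (g * a * g⁻¹) := by
            have := (Commute.pow_right (hgc : Commute g c) n).eq
            rw [← mul_assoc g, this]; simp only [mul_assoc]
        _ = c ^ (n + 1) * a := by rw [hga, pow_succ, mul_assoc]
  have hcr : (a' * a⁻¹ : R) ^ r = 1 := by
    have := hpow r
    rw [hg, one_mul, inv_one, mul_one] at this
    apply Subtype.ext
    rw [SubgroupClass.coe_pow, OneMemClass.coe_one, ← hcdef]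
    exact (right_eq_mul.mp this)
  have h1 : a' * a⁻¹ = 1 := by
    rw [← orderOf_eq_one_iff]
    refine Nat.eq_one_of_dvd_coprimes (?_ : Nat.Coprime r 32) (orderOf_dvd_of_pow_eq_one hcr)
      (D.card ▸ orderOf_dvd_natCard _)
    exact Nat.Coprime.pow_right 5 (Nat.coprime_two_right.mpr hr)
  rw [mul_inv_eq_one] at h1
  apply ha
  rw [mem_fix]
  exact mul_inv_eq_iff_eq_mul.mp (congrArg Subtype.val h1)

theorem scalar_of_fix_eq_top (D : Data R) {g : GL ι F} (h : fix R g = ⊤) :
    ∃ c : F, (g : Matrix ι ι F) = c • 1 :=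
  D.scalar_of_commute fun a ha => by
    have := (mem_fix (⟨a, ha⟩ : R)).mp (h ▸ Subgroup.mem_top _)
    exact congrArg Units.val this

/-- Order at least seven gives scalars. -/
theorem scalar_of_ge_seven (D : Data R) [Fact r.Prime] (h7 : 7 ≤ r) {g : GL ι F} (hg : g ^ r = 1)
    (hN : g ∈ subgroupNormalizer R) : ∃ c : F, (g : Matrix ι ι F) = c • 1 := by
  classical
  haveI := D.finite
  have hr : Odd r := (Fact.out : r.Prime).odd_of_ne_two (by omega)
  apply D.scalar_of_fix_eq_top
  apply D.fix_eq_top hr hg hN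
  have hk := D.card_fix_modEq hg hN
  obtain ⟨k, hk5, hk1, hkc⟩ := D.card_fix_cases (g := g)
  rw [hkc] at hk ⊢
  rcases (by omega : k ≤ 3 ∨ 4 ≤ k) with h3 | h4
  swap
  · exact (by norm_num : 16 ≤ 2 ^ 4).trans (Nat.pow_le_pow_right (by norm_num) h4)
  exfalso
  have hd : r ∣ 32 - 2 ^ k := (Nat.modEq_iff_dvd' (by interval_cases k <;> norm_num)).mp hk.symm
  -- only seven is possible, and then all ten involutions are fixed
  have hr7 : r = 7 ∧ k = 2 := by
    have hp : r.Prime := Fact.out
    interval_cases k <;> norm_num at hd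
    · have hd' : r ∣ 2 * (3 * 5) := by norm_num; exact hd
      rcases hp.dvd_mul.mp hd' with h | h
      · have := Nat.le_of_dvd (by norm_num) h; omega
      rcases hp.dvd_mul.mp h with h | h <;> · have := Nat.le_of_dvd (by norm_num) h; omega
    · have hd' : r ∣ 2 * (2 * 7) := by norm_num; exact hd
      refine ⟨?_, rfl⟩
      rcases hp.dvd_mul.mp hd' with h | h
      · have := Nat.le_of_dvd (by norm_num) h; omega
      rcases hp.dvd_mul.mp h with h | h
      · have := Nat.le_of_dvd (by norm_num) h; omega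
      · exact (Nat.prime_dvd_prime_iff_eq hp (by norm_num)).mp h
    · have hd' : r ∣ 2 * (2 * (2 * 3)) := by norm_num; exact hd
      rcases hp.dvd_mul.mp hd' with h | h
      · have := Nat.le_of_dvd (by norm_num) h; omega
      rcases hp.dvd_mul.mp h with h | h
      · have := Nat.le_of_dvd (by norm_num) h; omega
      rcases hp.dvd_mul.mp h with h | h <;> · have := Nat.le_of_dvd (by norm_num) h; omega
  obtain ⟨rfl, rfl⟩ := hr7
  have hI := D.card_modEq hg hN IsInv (fun a ha => isInv_conj ha _ rfl)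
  rw [D.card_isInv] at hI
  have hle : Nat.card {a : R // IsInv a ∧ g * (a : GL ι F) = a * g} ≤ 2 := by
    have h4 : Nat.card (fix R g) = 4 := by rw [hkc]; norm_num
    have h1 : Nat.card ↥({1, ⟨-1, D.neg_one_mem⟩} : Set R) = 2 := by
      rw [Nat.card_coe_set_eq, Set.ncard_pair]
      exact fun e => D.neg_ne_one (congrArg Subtype.val e).symm
    have hinj : Nat.card ({a : R // IsInv a ∧ g * (a : GL ι F) = a * g} ⊕ ↥({1, ⟨-1, D.neg_one_mem⟩} : Set R)) ≤
        Nat.card (fix R g) := by
      refine Nat.card_le_card_of_injective (fun x => Sum.elim (fun a => (⟨a.1, (mem_fix _).mpr a.2.2⟩ : fix R g))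
        (fun a => ⟨a.1, ?_⟩) x) ?_
      · rcases a.2 with h | h <;> rw [h, mem_fix] <;> simp
      · intro x y hxy
        rcases x with x | x <;> rcases y with y | y <;> simp at hxy
        · exact congrArg Sum.inl (Subtype.ext hxy)
        · rcases y.2 with h | h
          · exact absurd (congrArg Subtype.val (hxy.trans h)) x.2.1.2.1
          · exact absurd (congrArg Subtype.val (hxy.trans h)) x.2.1.2.2
        · rcases x.2 with h | h
          · exact absurd (congrArg Subtype.val (hxy.symm.trans h)) y.2.1.2.1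
          · exact absurd (congrArg Subtype.val (hxy.symm.trans h)) y.2.1.2.2
        · exact congrArg Sum.inr (Subtype.ext hxy)
    rw [Nat.card_sum, h1, h4] at hinj
    omega
  unfold Nat.ModEq at hI
  omega
where
  isInv_conj {g : GL ι F} {a : R} (ha : IsInv a) (b : R) (hb : (b : GL ι F) = g * a * g⁻¹) : IsInv b := by
    obtain ⟨h1, h2, h3⟩ := ha
    refine ⟨Subtype.ext ?_, ?_, ?_⟩
    · have : (a : GL ι F) * a = 1 := congrArg Subtype.val h1
      simp [hb, mul_assoc, ← mul_assoc (a : GL ι F), this]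
    · rw [hb]; simpa using h2
    · rw [hb]; intro e; apply h3
      have := congrArg (fun x => g⁻¹ * x * g) e
      simpa [mul_assoc] using this

end Data

end Cfsg.Agent.Lib.SympExtraFour
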