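import Cfsg.Agent.Lib.SympExtraFour.Fixed

/-!
Trace of an element normalising the group of order 32 and minus type.
-/

set_option autoImplicit false
set_option linter.style.haveILetI false

namespace Cfsg.Agent.Lib.SympExtraFour.Data

open Cfsg Cfsg.Geo Matrix

variable {ι : Type} [Fintype ι] [DecidableEq ι] {F : Type*} [Field F] {R : Subgroup (GL ι F)} {r : ℕ}

/-- Averaging over the group. -/
theorem sum_conj (D : Data R) [Fintype R] (X : Matrix ι ι F) :
    ∑ a : R, ((a : GL ι F) : Matrix ι ι F) * X * (((a⁻¹ : R) : GL ι F) : Matrix ι ι F) = (8 * X.trace) • 1 := by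
  set T := ∑ a : R, ((a : GL ι F) : Matrix ι ι F) * X * (((a⁻¹ : R) : GL ι F) : Matrix ι ι F) with hT
  obtain ⟨c, hc⟩ : ∃ c : F, T = c • 1 := by
    refine D.scalar_of_commute fun b hb => ?_
    symm
    rw [hT, Finset.mul_sum, Finset.sum_mul]
    refine Fintype.sum_equiv (Equiv.mulLeft (⟨b, hb⟩ : R)) _ _ fun a => ?_
    simp [mul_assoc]
  have htr : T.trace = 32 * X.trace := by
    rw [hT, Matrix.trace_sum]
    have : ∀ a : R, (((a : GL ι F) : Matrix ι ι F) * X * (((a⁻¹ : R) : GL ι F) : Matrix ι ι F)).trace = X.trace :=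
      fun a => by rw [InvMemClass.coe_inv]; exact Matrix.trace_units_conj (a : GL ι F) X
    simp only [this, Finset.sum_const, Finset.card_univ, nsmul_eq_mul]
    rw [← Nat.card_eq_fintype_card, D.card]
    norm_num
  rw [hc, Matrix.trace_smul, Matrix.trace_one, D.four, smul_eq_mul] at htr
  rw [hc]
  congr 1
  have h4 : (4 : F) ≠ 0 := by
    rw [show (4 : F) = 2 * 2 by norm_num]
    exact mul_ne_zero D.two_ne D.two_ne
  apply mul_right_cancel₀ h4
  push_cast at htr
  linear_combination htr

/-- The product of the traces of `g` and of its inverse is half the number of fixed elements. -/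
theorem two_mul_trace (D : Data R) (hr : Odd r) {g : GL ι F} (hg : g ^ r = 1)
    (hN : g ∈ subgroupNormalizer R) :
    2 * ((g : Matrix ι ι F).trace * ((g⁻¹ : GL ι F) : Matrix ι ι F).trace) = (Nat.card (fix R g) : F) := by
  classical
  haveI := D.finite
  haveI : Fintype R := Fintype.ofFinite R
  have h1 : ((g : Matrix ι ι F) * ∑ a : R, ((a : GL ι F) : Matrix ι ι F) * ((g⁻¹ : GL ι F) : Matrix ι ι F) *
      (((a⁻¹ : R) : GL ι F) : Matrix ι ι F)).trace =
      8 * ((g : Matrix ι ι F).trace * ((g⁻¹ : GL ι F) : Matrix ι ι F).trace) := by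
    rw [D.sum_conj, Matrix.mul_smul, mul_one, Matrix.trace_smul, smul_eq_mul]
    ring
  rw [Finset.mul_sum, Matrix.trace_sum] at h1
  have h2 : ∀ a : R, ((g : Matrix ι ι F) * (((a : GL ι F) : Matrix ι ι F) * ((g⁻¹ : GL ι F) : Matrix ι ι F) *
      (((a⁻¹ : R) : GL ι F) : Matrix ι ι F))).trace = if a ∈ fix R g then (4 : F) else 0 := by
    intro a
    have he : (g : Matrix ι ι F) * (((a : GL ι F) : Matrix ι ι F) * ((g⁻¹ : GL ι F) : Matrix ι ι F) *
        (((a⁻¹ : R) : GL ι F) : Matrix ι ι F)) = ((g * a * g⁻¹ * (a : GL ι F)⁻¹ : GL ι F) : Matrix ι ι F) := by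
      simp [mul_assoc]
    rw [he]
    have hmem : g * (a : GL ι F) * g⁻¹ * (a : GL ι F)⁻¹ ∈ R :=
      mul_mem ((Subgroup.mem_normalizer_iff.mp hN a).mp a.2) (inv_mem a.2)
    split_ifs with h
    · rw [mem_fix] at h
      rw [h, mul_inv_cancel_right, mul_inv_cancel, Units.val_one, Matrix.trace_one, D.four]
      norm_num
    · refine D.trace_eq_zero hmem ?_ ?_
      · intro e
        apply h
        rw [mem_fix]
        exact mul_inv_eq_iff_eq_mul.mp (mul_inv_eq_one.mp e)
      · intro e
        apply D.conj_ne_neg hr hg (a : GL ι F)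
        rw [mul_inv_eq_iff_eq_mul.mp e, neg_one_mul]
  rw [Finset.sum_congr rfl (fun a _ => h2 a), Finset.sum_ite, Finset.sum_const_zero, add_zero,
    Finset.sum_const, nsmul_eq_mul, ← Fintype.card_subtype, ← Nat.card_eq_fintype_card] at h1
  have h4 : (4 : F) ≠ 0 := by
    rw [show (4 : F) = 2 * 2 by norm_num]
    exact mul_ne_zero D.two_ne D.two_ne
  apply mul_right_cancel₀ h4
  linear_combination -h1

/-- An element of order three fixes exactly eight elements. -/
theorem card_fix_three (D : Data R) {g : GL ι F} (hg : g ^ 3 = 1) (hN : g ∈ subgroupNormalizer R)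
    (hns : ∀ c : F, (g : Matrix ι ι F) ≠ c • 1) : Nat.card (fix R g) = 8 := by
  classical
  haveI := D.finite
  haveI : Fact (Nat.Prime 3) := ⟨Nat.prime_three⟩
  have hlt : ¬ 16 ≤ Nat.card (fix R g) := fun h => by
    obtain ⟨c, hc⟩ := D.scalar_of_fix_eq_top (D.fix_eq_top (by decide) hg hN h)
    exact hns c hc
  have hk := D.card_fix_modEq hg hN
  obtain ⟨k, hk5, hk1, hkc⟩ := D.card_fix_cases (g := g)
  rw [hkc] at hk hlt ⊢
  interval_cases k <;> (try norm_num [Nat.ModEq] at hk) <;> (try norm_num at hlt) <;> (try norm_num)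
  -- a subgroup of order two would fix no noncentral involution
  have hI := D.card_modEq hg hN IsInv (fun a ha => scalar_of_ge_seven.isInv_conj ha _ rfl)
  rw [D.card_isInv] at hI
  have hempty : IsEmpty {a : R // IsInv a ∧ g * (a : GL ι F) = a * g} := by
    constructor
    rintro ⟨a, ⟨ha1, ha2, ha3⟩, hag⟩
    let f : Fin 3 → fix R g := ![1, ⟨⟨-1, D.neg_one_mem⟩, by rw [mem_fix]; simp⟩, ⟨a, (mem_fix _).mpr hag⟩]
    have hf : Function.Injective f := by
      intro i j hij
      have e := congrArg (fun x : fix R g => ((x : R) : GL ι F)) hij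
      fin_cases i <;> fin_cases j <;> simp [f] at e <;>
        first
          | rfl
          | exact absurd e D.neg_ne_one | exact absurd e.symm D.neg_ne_one
          | exact absurd e ha2 | exact absurd e.symm ha2
          | exact absurd e ha3 | exact absurd e.symm ha3
          | exact absurd (by rw [e]; simp) ha2
    have := Nat.card_le_card_of_injective f hf
    rw [Nat.card_fin, hkc] at this
    norm_num at this
  rw [Nat.card_of_isEmpty] at hI
  exact absurd hI (by unfold Nat.ModEq; norm_num)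

/-- An element of order five fixes only the centre. -/
theorem card_fix_five (D : Data R) {g : GL ι F} (hg : g ^ 5 = 1) (hN : g ∈ subgroupNormalizer R)
    (hns : ∀ c : F, (g : Matrix ι ι F) ≠ c • 1) : Nat.card (fix R g) = 2 := by
  haveI := D.finite
  haveI : Fact (Nat.Prime 5) := ⟨Nat.prime_five⟩
  have hlt : ¬ 16 ≤ Nat.card (fix R g) := fun h => by
    obtain ⟨c, hc⟩ := D.scalar_of_fix_eq_top (D.fix_eq_top (by decide) hg hN h)
    exact hns c hc
  have hk := D.card_fix_modEq hg hN
  obtain ⟨k, hk5, hk1, hkc⟩ := D.card_fix_cases (g := g)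
  rw [hkc] at hk hlt ⊢
  interval_cases k <;> (try norm_num [Nat.ModEq] at hk) <;> (try norm_num at hlt) <;> (try norm_num)

/-- Some noncentral involution is moved. -/
theorem exists_moved (D : Data R) {g : GL ι F} (h8 : Nat.card (fix R g) ≤ 8) :
    ∃ a : R, IsInv a ∧ g * (a : GL ι F) ≠ a * g := by
  classical
  haveI := D.finite
  by_contra hc
  push Not at hc
  have h : Nat.card {a : R // IsInv a} ≤ Nat.card (fix R g) :=
    Nat.card_le_card_of_injective (fun a => (⟨a.1, (mem_fix _).mpr (hc a.1 a.2)⟩ : fix R g))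
      fun a b e => Subtype.ext (congrArg (fun x : fix R g => (x : R)) e)
  rw [D.card_isInv] at h
  omega

/-- No conjugate of a matrix fixing every vector with vanishing `j`-th coordinate normalises the group
and fixes at most eight of its elements. -/
theorem not_transvection (D : Data R) (hr : Odd r) {x g h : GL ι F} (hg : g ^ r = 1)
    (hN : g ∈ subgroupNormalizer R) (h8 : Nat.card (fix R g) ≤ 8) (hgx : g = h * x * h⁻¹) (j : ι)
    (hx : ∀ w : ι → F, w j = 0 → (x : Matrix ι ι F) *ᵥ w = w) : False := by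
  obtain ⟨a, ⟨ha2, ha1, ha1'⟩, hag⟩ := D.exists_moved h8
  set A : GL ι F := (a : GL ι F) with hA
  have hA2 : A * A = 1 := congrArg Subtype.val ha2
  set B : GL ι F := g * A * g⁻¹ with hB
  have hBR : B ∈ R := (Subgroup.mem_normalizer_iff.mp hN A).mp a.2
  have hB2 : B * B = 1 := by rw [hB]; simp [mul_assoc, ← mul_assoc A, hA2]
  have hB1 : B ≠ 1 := by rw [hB]; simpa using ha1
  have hB1' : B ≠ -1 := by
    intro e
    apply ha1'
    have := congrArg (fun y => g⁻¹ * y * g) e
    simpa [hB, mul_assoc] using this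
  have hanti : A * B = -(B * A) := by
    refine (D.commute_or_anti a.2 hBR).resolve_left fun hc => ?_
    rcases D.eight a.2 hBR hA2 hB2 hc ha1 ha1' hB1 hB1' with e | e
    · exact hag (mul_inv_eq_iff_eq_mul.mp e)
    · exact D.conj_ne_neg hr hg A e
  obtain ⟨v, hv0, hv1, hv2⟩ : ∃ v : ι → F, v ≠ 0 ∧
      (((h⁻¹ : GL ι F) : Matrix ι ι F) *ᵥ v) j = 0 ∧
      (((h⁻¹ : GL ι F) : Matrix ι ι F) *ᵥ ((A : Matrix ι ι F) *ᵥ v)) j = 0 := by
    let L : (ι → F) →ₗ[F] F × F := LinearMap.prod
      ((LinearMap.proj j).comp (Matrix.mulVecLin ((h⁻¹ : GL ι F) : Matrix ι ι F)))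
      ((LinearMap.proj j).comp (Matrix.mulVecLin (((h⁻¹ : GL ι F) : Matrix ι ι F) * (A : Matrix ι ι F))))
    obtain ⟨v, hv, hv0⟩ := Submodule.exists_mem_ne_zero_of_ne_bot
      (LinearMap.ker_ne_bot_of_finrank_lt (f := L) (by simp [D.four]))
    rw [LinearMap.mem_ker] at hv
    refine ⟨v, hv0, by simpa [L] using congrArg Prod.fst hv, ?_⟩
    have := congrArg Prod.snd hv
    rw [Matrix.mulVec_mulVec]
    simpa [L] using this
  have hfix : ∀ w : ι → F, (((h⁻¹ : GL ι F) : Matrix ι ι F) *ᵥ w) j = 0 → (g : Matrix ι ι F) *ᵥ w = w := by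
    intro w hw
    rw [hgx, Units.val_mul, Units.val_mul, ← Matrix.mulVec_mulVec, ← Matrix.mulVec_mulVec, hx _ hw,
      Matrix.mulVec_mulVec, ← Units.val_mul, mul_inv_cancel, Units.val_one, Matrix.one_mulVec]
  have hgv := hfix v hv1
  have hgAv := hfix _ hv2
  have hgiv : ((g⁻¹ : GL ι F) : Matrix ι ι F) *ᵥ v = v := by
    conv_lhs => rw [← hgv]
    rw [Matrix.mulVec_mulVec, ← Units.val_mul, inv_mul_cancel, Units.val_one, Matrix.one_mulVec]
  have hBv : (B : Matrix ι ι F) *ᵥ v = (A : Matrix ι ι F) *ᵥ v := by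
    rw [hB, Units.val_mul, Units.val_mul, ← Matrix.mulVec_mulVec, ← Matrix.mulVec_mulVec, hgiv, hgAv]
  -- `(A B)² = -1` but `A B v = v`
  have hABv : ((A * B : GL ι F) : Matrix ι ι F) *ᵥ v = v := by
    rw [Units.val_mul, ← Matrix.mulVec_mulVec, hBv, Matrix.mulVec_mulVec, ← Units.val_mul, hA2, Units.val_one,
      Matrix.one_mulVec]
  have hsq : A * B * (A * B) = -1 := by
    calc A * B * (A * B) = A * B * (-(B * A)) := by rw [← hanti]
      _ = -(A * (B * B) * A) := by simp only [mul_neg, mul_assoc]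
      _ = -1 := by rw [hB2, mul_one, hA2]
  have h1 : v = -v := by
    have := congrArg (fun M : GL ι F => (M : Matrix ι ι F) *ᵥ v) hsq
    simp only [Units.val_mul, ← Matrix.mulVec_mulVec] at this
    rw [Units.val_mul, ← Matrix.mulVec_mulVec] at hABv
    rw [hABv, hABv, Units.val_neg, Units.val_one, Matrix.neg_mulVec, Matrix.one_mulVec] at this
    exact this
  apply hv0
  funext i
  have := congrFun h1 i
  simp only [Pi.neg_apply] at this
  have : (2 : F) * v i = 0 := by linear_combination this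
  exact (mul_eq_zero.mp this).resolve_left D.two_ne

end Cfsg.Agent.Lib.SympExtraFour.Data
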