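import Cfsg.Agent.Lib.SympExtraFour.Fixed
import Cfsg.Agent.Lib.SympExtraFour.Trace
import Cfsg.Agent.Lib.SympExtraFour.Five
import Cfsg.Agent.Lib.OrthFrame.Frame

/-!
The group of order 32 and minus type as a frame: five anticommuting involutions spanning the self-adjoint
matrices of trace zero, and the resulting map from `Sp₄` to the orthogonal group in five variables.
-/

set_option autoImplicit false
set_option linter.unusedSectionVars false

namespace Cfsg.Agent.Lib.SympExtraFour

open Cfsg Cfsg.Geo Matrix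
open Cfsg.Agent.Lib.Orth Cfsg.Agent.Lib.OrthFrame

variable {F : Type*} [Field F]

local notation "ι₄" => (Fin 2 ⊕ Fin 2)
local notation "M₄" => Matrix (Fin 2 ⊕ Fin 2) (Fin 2 ⊕ Fin 2) F
local notation "𝐉" => Matrix.J (Fin 2) F

/-- Self-adjoint matrices. -/
def SA (x : M₄) : Prop := xᵀ * 𝐉 = 𝐉 * x

theorem transpose_J_of_mem {g : GL ι₄ F} (hg : g ∈ spGL 2 F) :
    (g : M₄)ᵀ * 𝐉 = 𝐉 * ((g⁻¹ : GL ι₄ F) : M₄) := by
  conv_rhs => rw [← transpose_mul_of_mem hg]
  rw [Matrix.mul_assoc, Units.mul_inv, Matrix.mul_one]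

theorem SA.conj {x : M₄} (hx : SA x) {g : GL ι₄ F} (hg : g ∈ spGL 2 F) :
    SA ((g : M₄) * x * ((g⁻¹ : GL ι₄ F) : M₄)) := by
  have h1 := transpose_J_of_mem hg
  have h2 := transpose_J_of_mem (inv_mem hg)
  rw [inv_inv] at h2
  unfold SA at *
  rw [Matrix.transpose_mul, Matrix.transpose_mul, Matrix.mul_assoc, Matrix.mul_assoc, h1,
    ← Matrix.mul_assoc (xᵀ), hx, Matrix.mul_assoc 𝐉, ← Matrix.mul_assoc _ 𝐉, h2, Matrix.mul_assoc,
    Matrix.mul_assoc]

variable {R : Subgroup (GL ι₄ F)}

namespace Data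

variable (D : Data R) (hsp : R ≤ spGL 2 F)
include D

theorem sum_trace [Fintype R] (x : M₄) :
    ∑ a : R, (x * (((a⁻¹ : R) : GL ι₄ F) : M₄)).trace • ((a : GL ι₄ F) : M₄) = (8 : F) • x := by
  ext i l
  have key : ∀ q p : ι₄, ∑ a : R, ((a : GL ι₄ F) : M₄) i l * (((a⁻¹ : R) : GL ι₄ F) : M₄) q p =
      if l = q ∧ i = p then 8 else 0 := by
    intro q p
    have h := congrFun (congrFun (D.sum_conj (Matrix.single l q (1 : F))) i) p
    simp only [Matrix.sum_apply, Matrix.smul_apply, smul_eq_mul] at h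
    rw [Finset.sum_congr rfl fun a _ => ?_] at h
    · rw [h]
      by_cases hlq : l = q
      · subst hlq
        by_cases hip : i = p
        · subst hip; simp
        · simp [hip, Matrix.one_apply_ne hip]
      · simp [hlq, Matrix.trace_single_eq_of_ne l q (1 : F) hlq]
    · rw [Matrix.mul_apply, Finset.sum_eq_single q]
      · rw [Matrix.mul_apply, Finset.sum_eq_single l]
        · simp
        · intro k _ hk; simp [Matrix.single_apply, Ne.symm hk]
        · simp
      · intro k _ hk
        rw [Matrix.mul_apply]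
        simp [Matrix.single_apply, Ne.symm hk]
      · simp
  simp only [Matrix.sum_apply, Matrix.smul_apply, smul_eq_mul, Matrix.trace, Matrix.diag_apply,
    Matrix.mul_apply, Finset.sum_mul]
  rw [Finset.sum_comm]
  have : ∀ p : ι₄, ∑ a : R, ∑ q : ι₄, x p q * (((a⁻¹ : R) : GL ι₄ F) : M₄) q p * ((a : GL ι₄ F) : M₄) i l =
      ∑ q : ι₄, x p q * (if l = q ∧ i = p then 8 else 0) := by
    intro p
    rw [Finset.sum_comm]
    refine Finset.sum_congr rfl fun q _ => ?_
    rw [← key q p, Finset.mul_sum]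
    exact Finset.sum_congr rfl fun a _ => by ring
  rw [Finset.sum_congr rfl fun p _ => this p, Finset.sum_eq_single i, Finset.sum_eq_single l]
  · simp [mul_comm]
  · intro b _ hb; simp [Ne.symm hb]
  · simp
  · intro b _ hb; exact Finset.sum_eq_zero fun q _ => by simp [Ne.symm hb]
  · simp

include hsp

theorem sa_of_sq {a : GL ι₄ F} (ha : a ∈ R) (h2 : a * a = 1) : SA (a : M₄) := by
  unfold SA
  rw [transpose_J_of_mem (hsp ha), inv_eq_of_mul_eq_one_right h2]

theorem anti_of_sq {a : GL ι₄ F} (ha : a ∈ R) (h2 : a * a = -1) : (a : M₄)ᵀ * 𝐉 = -(𝐉 * (a : M₄)) := by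
  rw [transpose_J_of_mem (hsp ha), inv_eq_of_mul_eq_one_right (b := -a) (by rw [mul_neg, h2, neg_neg]),
    Units.val_neg, Matrix.mul_neg]

omit hsp in
theorem trace_anti {x a : M₄} (hx : SA x) (ha : aᵀ * 𝐉 = -(𝐉 * a)) : (x * a).trace = 0 := by
  have hJJ : 𝐉 * 𝐉 = -1 := Matrix.J_squared _ _
  have h1 : (x * a)ᵀ * 𝐉 = -(𝐉 * (a * x)) := by
    rw [Matrix.transpose_mul, Matrix.mul_assoc, hx, ← Matrix.mul_assoc, ha, Matrix.neg_mul, Matrix.mul_assoc]
  have h2 : (x * a)ᵀ = 𝐉 * (a * x) * 𝐉 := by
    have := congrArg (fun m => m * 𝐉) h1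
    simp only [Matrix.mul_assoc, hJJ, Matrix.mul_neg, Matrix.mul_one, Matrix.neg_mul] at this
    simpa [Matrix.mul_assoc] using neg_injective this
  have h3 := congrArg Matrix.trace h2
  rw [Matrix.trace_transpose, Matrix.trace_mul_comm (𝐉 * (a * x)) 𝐉, ← Matrix.mul_assoc, hJJ, Matrix.neg_mul,
    Matrix.one_mul, Matrix.trace_neg, Matrix.trace_mul_comm a x] at h3
  exact (mul_eq_zero.mp (show (2 : F) * (x * a).trace = 0 by linear_combination h3)).resolve_left D.two_ne

end Data

/-- Five representatives of the noncentral involutions. -/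
structure Frame5 (R : Subgroup (GL ι₄ F)) (e : Fin 5 → GL ι₄ F) : Prop where
  data : Data R
  le : R ≤ spGL 2 F
  mem : ∀ i, e i ∈ R
  sq : ∀ i, e i * e i = 1
  ne_one : ∀ i, e i ≠ 1 ∧ e i ≠ -1
  anti : ∀ i j, i ≠ j → e i * e j = -(e j * e i)
  all : ∀ a ∈ R, a * a = 1 → a ≠ 1 → a ≠ -1 → ∃ i, a = e i ∨ a = -e i

theorem Data.exists_frame (D : Data R) (hsp : R ≤ spGL 2 F) : ∃ e, Frame5 R e := by
  classical
  haveI := D.finite
  have main : ∀ k ≤ 5, ∃ e : Fin k → R, (∀ i, Data.IsInv (e i)) ∧
      ∀ i j, i ≠ j → (e i : GL ι₄ F) ≠ e j ∧ (e i : GL ι₄ F) ≠ -(e j : GL ι₄ F) := by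
    intro k
    induction k with
    | zero => exact fun _ => ⟨Fin.elim0, fun i => i.elim0, fun i => i.elim0⟩
    | succ k ih =>
      intro hk
      obtain ⟨e, he, hd⟩ := ih (by omega)
      obtain ⟨a, ha, hna⟩ : ∃ a : R, Data.IsInv a ∧ ∀ i,
          (a : GL ι₄ F) ≠ e i ∧ (a : GL ι₄ F) ≠ -(e i : GL ι₄ F) := by
        by_contra hc
        push Not at hc
        let f : {a : R // Data.IsInv a} → Fin k × Bool := fun a =>
          if h : ∃ i, (a.1 : GL ι₄ F) = e i then (h.choose, true)
          else if h' : ∃ i, (a.1 : GL ι₄ F) = -(e i : GL ι₄ F) then (h'.choose, false)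
          else absurd a.2 (fun ha => by
            obtain ⟨i, hi⟩ := hc a.1 ha
            push Not at h h'
            exact h' i (hi (h i)))
        have hf : Function.Injective f := by
          intro a b hab
          have hv : ∀ a : {a : R // Data.IsInv a}, (a.1 : GL ι₄ F) =
              if (f a).2 then (e (f a).1 : GL ι₄ F) else -(e (f a).1 : GL ι₄ F) := by
            intro a
            by_cases h : ∃ i, (a.1 : GL ι₄ F) = e i
            · simp only [f, dif_pos h, if_true]
              exact h.choose_spec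
            · by_cases h' : ∃ i, (a.1 : GL ι₄ F) = -(e i : GL ι₄ F)
              · simp only [f, dif_neg h, dif_pos h']
                simpa using h'.choose_spec
              · exfalso
                push Not at h h'
                obtain ⟨i, hi⟩ := hc a.1 a.2
                exact h' i (hi (h i))
          exact Subtype.ext (Subtype.ext (by rw [hv a, hv b, hab]))
        have := Nat.card_le_card_of_injective f hf
        rw [D.card_isInv, Nat.card_prod, Nat.card_eq_fintype_card (α := Bool), Fintype.card_bool,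
          Nat.card_fin] at this
        omega
      refine ⟨Fin.snoc e a, fun i => ?_, fun i j hij => ?_⟩
      · induction i using Fin.lastCases with
        | last => simpa using ha
        | cast i => simpa using he i
      · induction i using Fin.lastCases with
        | last =>
          induction j using Fin.lastCases with
          | last => exact absurd rfl hij
          | cast j => simpa using hna j
        | cast i =>
          induction j using Fin.lastCases with
          | last =>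
            simp only [Fin.snoc_castSucc, Fin.snoc_last]
            refine ⟨(hna i).1.symm, fun h => (hna i).2 ?_⟩
            rw [h, neg_neg]
          | cast j => simpa using hd i j (fun h => hij (by rw [h]))
  obtain ⟨e, he, hd⟩ := main 5 le_rfl
  refine ⟨fun i => e i, D, hsp, fun i => (e i).2, fun i => congrArg Subtype.val (he i).1,
    fun i => (he i).2, fun i j hij => ?_, fun a ha h2 h1 h1' => ?_⟩
  · refine (D.commute_or_anti (e i).2 (e j).2).resolve_left fun hc => ?_
    rcases D.eight (e i).2 (e j).2 (congrArg Subtype.val (he i).1) (congrArg Subtype.val (he j).1) hc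
      (he i).2.1 (he i).2.2 (he j).2.1 (he j).2.2 with h | h
    · exact (hd i j hij).1 h.symm
    · exact (hd j i (Ne.symm hij)).2 h
  · let g : Fin 5 × Bool → {a : R // Data.IsInv a} := fun p =>
      if p.2 then ⟨e p.1, he p.1⟩ else ⟨⟨-(e p.1 : GL ι₄ F), by
          simpa using mul_mem D.neg_one_mem (e p.1).2⟩, Subtype.ext (by
            simpa using congrArg Subtype.val (he p.1).1), fun h => (he p.1).2.2 (by rw [← h]; simp),
          fun h => (he p.1).2.1 (neg_injective h)⟩
    have hne : ∀ i, (e i : GL ι₄ F) ≠ -(e i : GL ι₄ F) := fun i h => D.neg_ne_one (by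
      have hs : (e i : GL ι₄ F) * (e i : GL ι₄ F) = 1 := congrArg Subtype.val (he i).1
      have := congrArg (fun x => (e i : GL ι₄ F) * x) h
      simp only [mul_neg, hs] at this
      exact this.symm)
    have hg : Function.Injective g := by
      rintro ⟨i, s⟩ ⟨j, t⟩ h
      have hv := congrArg (fun x : {a : R // Data.IsInv a} => ((x.1 : R) : GL ι₄ F)) h
      by_cases hij : i = j
      · subst hij
        cases s <;> cases t <;> simp [g] at hv ⊢
        · exact hne i hv.symm
        · exact hne i hv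
      · exfalso
        cases s <;> cases t <;> simp [g] at hv
        · exact (hd i j hij).1 (congrArg Subtype.val hv)
        · exact (hd j i (Ne.symm hij)).2 hv.symm
        · exact (hd i j hij).2 hv
        · exact (hd i j hij).1 (congrArg Subtype.val hv)
    have hcard : Nat.card (Fin 5 × Bool) = Nat.card {a : R // Data.IsInv a} := by
      rw [D.card_isInv, Nat.card_prod, Nat.card_eq_fintype_card (α := Bool), Fintype.card_bool, Nat.card_fin]
    obtain ⟨⟨i, s⟩, hi⟩ := ((Nat.bijective_iff_injective_and_card g).mpr ⟨hg, hcard⟩).2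
      ⟨⟨a, ha⟩, Subtype.ext h2, h1, h1'⟩
    have hv := congrArg (fun x : {a : R // Data.IsInv a} => ((x.1 : R) : GL ι₄ F)) hi
    refine ⟨i, ?_⟩
    cases s
    · right; simpa [g] using hv.symm
    · left; simpa [g] using hv.symm

/-- The combination of the five involutions. -/
def Xv (e : Fin 5 → GL ι₄ F) (v : Fin 5 → F) : M₄ := ∑ i, v i • (e i : M₄)

/-- The coefficients of a matrix. -/
def coef (e : Fin 5 → GL ι₄ F) (x : M₄) : Fin 5 → F := fun i => (x * (e i : M₄)).trace / 4

theorem Xv_add (e : Fin 5 → GL ι₄ F) (v w : Fin 5 → F) : Xv e (v + w) = Xv e v + Xv e w := by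
  simp [Xv, add_smul, Finset.sum_add_distrib]

theorem Xv_smul (e : Fin 5 → GL ι₄ F) (c : F) (v : Fin 5 → F) : Xv e (c • v) = c • Xv e v := by
  simp [Xv, Finset.smul_sum, smul_smul]

theorem Xv_neg (e : Fin 5 → GL ι₄ F) (v : Fin 5 → F) : Xv e (-v) = -Xv e v := by
  simp [Xv, neg_smul]

theorem Xv_ax (e : Fin 5 → GL ι₄ F) (i : Fin 5) : Xv e (ax i) = (e i : M₄) := by
  simp [Xv, ax, Pi.single_apply, ite_smul]

theorem SA_Xv {e : Fin 5 → GL ι₄ F} (h : ∀ i, SA (e i : M₄)) (v : Fin 5 → F) : SA (Xv e v) := by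
  simp only [SA, Xv, Matrix.transpose_sum, Matrix.transpose_smul, Finset.sum_mul, Finset.mul_sum,
    Matrix.smul_mul, Matrix.mul_smul]
  exact Finset.sum_congr rfl fun i _ => by rw [h i]

namespace Frame5

variable {e : Fin 5 → GL ι₄ F} (he : Frame5 R e)
include he

theorem four_ne : (4 : F) ≠ 0 := by
  rw [show (4 : F) = 2 * 2 by norm_num]
  exact mul_ne_zero he.data.two_ne he.data.two_ne

theorem sa (i : Fin 5) : SA (e i : M₄) := he.data.sa_of_sq he.le (he.mem i) (he.sq i)

theorem sq_val (i : Fin 5) : (e i : M₄) * (e i : M₄) = 1 := by rw [← Units.val_mul, he.sq, Units.val_one]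

theorem anti_val {i j : Fin 5} (h : i ≠ j) : (e i : M₄) * (e j : M₄) = -((e j : M₄) * (e i : M₄)) := by
  rw [← Units.val_mul, he.anti i j h, Units.val_neg, Units.val_mul]

theorem trace_e (i : Fin 5) : (e i : M₄).trace = 0 :=
  he.data.trace_eq_zero (he.mem i) (he.ne_one i).1 (he.ne_one i).2

theorem trace_mul (i j : Fin 5) : ((e i : M₄) * (e j : M₄)).trace = if i = j then 4 else 0 := by
  by_cases h : i = j
  · subst h
    rw [if_pos rfl, he.sq_val, Matrix.trace_one]
    norm_num
  · rw [if_neg h]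
    have h' := congrArg Matrix.trace (he.anti_val h)
    rw [Matrix.trace_neg, Matrix.trace_mul_comm (e j : M₄)] at h'
    exact (mul_eq_zero.mp (show (2 : F) * ((e i : M₄) * (e j : M₄)).trace = 0 by linear_combination h')).resolve_left
      he.data.two_ne

theorem coef_Xv (v : Fin 5 → F) : coef e (Xv e v) = v := by
  funext j
  simp only [coef, Xv, Finset.sum_mul, Matrix.trace_sum, Matrix.smul_mul, Matrix.trace_smul, smul_eq_mul,
    he.trace_mul, mul_ite, mul_zero, Finset.sum_ite_eq', Finset.mem_univ, if_true]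
  field_simp [he.four_ne]

theorem Xv_inj {v w : Fin 5 → F} (h : Xv e v = Xv e w) : v = w := by
  rw [← he.coef_Xv v, h, he.coef_Xv]

theorem Xv_trace (v : Fin 5 → F) : (Xv e v).trace = 0 := by
  simp [Xv, Matrix.trace_sum, he.trace_e]

/-- Self-adjoint matrices of trace zero are combinations of the five involutions. -/
theorem eq_Xv {x : M₄} (hx : SA x) (h0 : x.trace = 0) : x = Xv e (coef e x) := by
  classical
  haveI := he.data.finite
  haveI : Fintype R := Fintype.ofFinite R
  have hD := he.data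
  let g : Fin 5 × Bool → R := fun p =>
    if p.2 then ⟨e p.1, he.mem p.1⟩ else ⟨-e p.1, by simpa using mul_mem hD.neg_one_mem (he.mem p.1)⟩
  have hne : ∀ i, e i ≠ -e i := fun i h => hD.neg_ne_one (by
    have := congrArg (fun x => e i * x) h
    simpa [he.sq i] using this.symm)
  have hdist : ∀ i j, i ≠ j → e i ≠ e j ∧ e i ≠ -e j := by
    intro i j hij
    constructor <;> intro h <;> have hh := he.anti i j hij
    · rw [h, he.sq] at hh; exact hD.neg_ne_one hh.symm
    · rw [h, neg_mul, mul_neg, he.sq, neg_neg] at hh; exact hD.neg_ne_one hh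
  have hg : Function.Injective g := by
    rintro ⟨i, s⟩ ⟨j, t⟩ h
    have hv := congrArg (fun x : R => (x : GL ι₄ F)) h
    by_cases hij : i = j
    · subst hij
      cases s <;> cases t <;> simp [g] at hv ⊢
      · exact hne i hv.symm
      · exact hne i hv
    · exfalso
      cases s <;> cases t <;> simp [g] at hv
      · exact (hdist i j hij).1 hv
      · exact (hdist j i (Ne.symm hij)).2 hv.symm
      · exact (hdist i j hij).2 hv
      · exact (hdist i j hij).1 hv
  have hsum := hD.sum_trace x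
  rw [← Finset.sum_subset (Finset.subset_univ (Finset.univ.image g)) (fun a _ ha => ?_),
    Finset.sum_image (fun p _ q _ h => hg h), Fintype.sum_prod_type] at hsum
  · have hterm : ∀ i : Fin 5, (∑ s : Bool, (x * (((g (i, s))⁻¹ : R) : GL ι₄ F)).trace • ((g (i, s) : GL ι₄ F) : M₄)) =
        (2 * (x * (e i : M₄)).trace) • (e i : M₄) := by
      intro i
      have hi : (e i)⁻¹ = e i := inv_eq_of_mul_eq_one_right (he.sq i)
      rw [Fintype.sum_bool]
      simp only [g, if_true, InvMemClass.coe_inv, Bool.false_eq_true, if_false, inv_neg, hi, Units.val_neg,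
        Matrix.mul_neg, Matrix.trace_neg, neg_smul, smul_neg, neg_neg, two_mul, add_smul]
    rw [Finset.sum_congr rfl fun i _ => hterm i] at hsum
    have h8 : (8 : F) ≠ 0 := by
      rw [show (8 : F) = 4 * 2 by norm_num]
      exact mul_ne_zero he.four_ne hD.two_ne
    apply smul_right_injective M₄ h8
    show (8 : F) • x = (8 : F) • Xv e (coef e x)
    rw [← hsum, Xv, Finset.smul_sum]
    refine Finset.sum_congr rfl fun i _ => ?_
    rw [smul_smul, coef]
    congr 1
    field_simp [he.four_ne]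
    ring
  · -- all other elements give zero
    rcases hD.sq_cases a.2 with h2 | h2
    · have hc : (a : GL ι₄ F) = 1 ∨ (a : GL ι₄ F) = -1 := by
        by_contra hc
        push Not at hc
        obtain ⟨i, hi | hi⟩ := he.all _ a.2 h2 hc.1 hc.2
        · exact ha (Finset.mem_image.mpr ⟨(i, true), Finset.mem_univ _, Subtype.ext (by simp [g, hi])⟩)
        · exact ha (Finset.mem_image.mpr ⟨(i, false), Finset.mem_univ _, Subtype.ext (by simp [g, hi])⟩)
      rcases hc with h | h <;> simp [h, h0, inv_neg]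
    · rw [InvMemClass.coe_inv, inv_eq_of_mul_eq_one_right (b := -(a : GL ι₄ F)) (by rw [mul_neg, h2, neg_neg]),
        Units.val_neg, Matrix.mul_neg, Matrix.trace_neg, hD.trace_anti hx (hD.anti_of_sq he.le a.2 h2),
        neg_zero, zero_smul]

theorem Xv_mul_add (v w : Fin 5 → F) :
    Xv e v * Xv e w + Xv e w * Xv e v = (2 * (v ⬝ᵥ w)) • (1 : M₄) := by
  simp only [Xv, Finset.sum_mul, Finset.mul_sum, Matrix.smul_mul, Matrix.mul_smul, smul_smul]
  conv_lhs => arg 1; rw [Finset.sum_comm]
  rw [← Finset.sum_add_distrib, dotProduct, Finset.mul_sum, Finset.sum_smul]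
  refine Finset.sum_congr rfl fun i _ => ?_
  rw [← Finset.sum_add_distrib, Finset.sum_eq_single i]
  · rw [he.sq_val, ← add_smul]; congr 1; ring
  · intro j _ hj
    rw [he.anti_val (Ne.symm hj), smul_neg, mul_comm (v i) (w j), ← neg_smul, ← add_smul]
    simp
  · simp

theorem Xv_sq (v : Fin 5 → F) : Xv e v * Xv e v = (v ⬝ᵥ v) • (1 : M₄) := by
  apply smul_right_injective M₄ he.data.two_ne
  show (2 : F) • _ = (2 : F) • _
  rw [smul_smul, ← he.Xv_mul_add, two_smul]

/-- The conjugation action of an isometry on the five coordinates. -/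
def conjVec (e : Fin 5 → GL ι₄ F) (g : GL ι₄ F) (v : Fin 5 → F) : Fin 5 → F :=
  coef e ((g : M₄) * Xv e v * ((g⁻¹ : GL ι₄ F) : M₄))

theorem Xv_conjVec {g : GL ι₄ F} (hg : g ∈ spGL 2 F) (v : Fin 5 → F) :
    Xv e (conjVec e g v) = (g : M₄) * Xv e v * ((g⁻¹ : GL ι₄ F) : M₄) :=
  (he.eq_Xv ((SA_Xv he.sa v).conj hg) (by rw [Matrix.trace_units_conj, he.Xv_trace])).symm

theorem conjVec_mul {g h : GL ι₄ F} (hg : g ∈ spGL 2 F) (hh : h ∈ spGL 2 F) (v : Fin 5 → F) :
    conjVec e (g * h) v = conjVec e g (conjVec e h v) := by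
  apply he.Xv_inj
  rw [he.Xv_conjVec (mul_mem hg hh), he.Xv_conjVec hg, he.Xv_conjVec hh, _root_.mul_inv_rev, Units.val_mul,
    Units.val_mul]
  simp only [Matrix.mul_assoc]

theorem conjVec_one (v : Fin 5 → F) : conjVec e 1 v = v := by
  simp [conjVec, he.coef_Xv]

theorem conjVec_add {g : GL ι₄ F} (hg : g ∈ spGL 2 F) (v w : Fin 5 → F) :
    conjVec e g (v + w) = conjVec e g v + conjVec e g w := by
  apply he.Xv_inj
  rw [Xv_add, he.Xv_conjVec hg, he.Xv_conjVec hg, he.Xv_conjVec hg, Xv_add, Matrix.mul_add, Matrix.add_mul]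

theorem conjVec_smul {g : GL ι₄ F} (hg : g ∈ spGL 2 F) (c : F) (v : Fin 5 → F) :
    conjVec e g (c • v) = c • conjVec e g v := by
  apply he.Xv_inj
  rw [Xv_smul, he.Xv_conjVec hg, he.Xv_conjVec hg, Xv_smul, Matrix.mul_smul, Matrix.smul_mul]

theorem conjVec_dot {g : GL ι₄ F} (hg : g ∈ spGL 2 F) (v : Fin 5 → F) :
    conjVec e g v ⬝ᵥ conjVec e g v = v ⬝ᵥ v := by
  have h : Xv e (conjVec e g v) * Xv e (conjVec e g v) = (v ⬝ᵥ v) • (1 : M₄) := by
    rw [he.Xv_conjVec hg]
    calc (g : M₄) * Xv e v * ((g⁻¹ : GL ι₄ F) : M₄) * ((g : M₄) * Xv e v * ((g⁻¹ : GL ι₄ F) : M₄))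
        = (g : M₄) * (Xv e v * ((((g⁻¹ : GL ι₄ F) : M₄) * (g : M₄)) * Xv e v)) * ((g⁻¹ : GL ι₄ F) : M₄) := by
          simp only [Matrix.mul_assoc]
      _ = (v ⬝ᵥ v) • (1 : M₄) := by
          rw [Units.inv_mul, Matrix.one_mul, he.Xv_sq, Matrix.mul_smul, Matrix.mul_one, Matrix.smul_mul,
            Units.mul_inv]
  rw [he.Xv_sq] at h
  simpa using congrFun (congrFun h (Sum.inl 0)) (Sum.inl 0)

/-- The map to the orthogonal group. -/
noncomputable def rho : spGL 2 F →* O (Fin 5) F where
  toFun g := ofEquiv (dotQ (Fin 5) F)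
    { toFun := conjVec e (g : GL ι₄ F)
      map_add' := he.conjVec_add g.2
      map_smul' := he.conjVec_smul g.2
      invFun := conjVec e ((g : GL ι₄ F)⁻¹)
      left_inv := fun v => by
        rw [← he.conjVec_mul (inv_mem g.2) g.2, inv_mul_cancel, he.conjVec_one]
      right_inv := fun v => by
        rw [← he.conjVec_mul g.2 (inv_mem g.2), mul_inv_cancel, he.conjVec_one] }
    fun v => by rw [dotQ_apply, dotQ_apply]; exact he.conjVec_dot g.2 v
  map_one' := isometry_ext fun v => by
    rw [app_ofEquiv, app_one]; exact he.conjVec_one v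
  map_mul' g h := isometry_ext fun v => by
    rw [app_mul, app_ofEquiv, app_ofEquiv, app_ofEquiv]; exact he.conjVec_mul g.2 h.2 v

theorem app_rho (g : spGL 2 F) (v : Fin 5 → F) : app (he.rho g) v = conjVec e (g : GL ι₄ F) v := by
  simp only [rho, MonoidHom.coe_mk, OneHom.coe_mk]
  rw [app_ofEquiv]; rfl

/-- The involution attached to a unit vector. -/
def Xu (v : Fin 5 → F) (hv : v ⬝ᵥ v = 1) : GL ι₄ F :=
  ⟨Xv e v, Xv e v, by rw [he.Xv_sq, hv, one_smul], by rw [he.Xv_sq, hv, one_smul]⟩

theorem Xu_mem (v : Fin 5 → F) (hv : v ⬝ᵥ v = 1) : he.Xu v hv ∈ spGL 2 F := by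
  apply mem_of_transpose_mul
  show (Xv e v)ᵀ * 𝐉 * Xv e v = 𝐉
  rw [SA_Xv he.sa v, Matrix.mul_assoc, he.Xv_sq, hv, one_smul, Matrix.mul_one]

theorem conjVec_Xu (v : Fin 5 → F) (hv : v ⬝ᵥ v = 1) (w : Fin 5 → F) :
    conjVec e (he.Xu v hv) w = -rf v w := by
  apply he.Xv_inj
  rw [he.Xv_conjVec (he.Xu_mem v hv)]
  show Xv e v * Xv e w * Xv e v = _
  have h : Xv e v * Xv e w = (2 * (v ⬝ᵥ w)) • (1 : M₄) - Xv e w * Xv e v := by
    rw [← he.Xv_mul_add, add_sub_cancel_right]
  rw [h, Matrix.sub_mul, Matrix.smul_mul, Matrix.one_mul, Matrix.mul_assoc, he.Xv_sq, hv, one_smul,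
    Matrix.mul_one, rf, neg_sub, sub_eq_add_neg, sub_eq_add_neg, Xv_add, Xv_smul, Xv_neg]

theorem rho_pair (v w : Fin 5 → F) (hv : v ⬝ᵥ v = 1) (hw : w ⬝ᵥ w = 1) :
    he.rho ⟨he.Xu v hv * he.Xu w hw, mul_mem (he.Xu_mem v hv) (he.Xu_mem w hw)⟩ = rr v hv * rr w hw := by
  refine isometry_ext fun x => ?_
  rw [he.app_rho]
  show conjVec e (he.Xu v hv * he.Xu w hw) x = _
  rw [he.conjVec_mul (he.Xu_mem v hv) (he.Xu_mem w hw), he.conjVec_Xu, he.conjVec_Xu, app_mul, app_rr, app_rr]
  funext i
  simp [rf, dotProduct_neg]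
  ring

/-- The group is generated by the five involutions and `-1`. -/
theorem le_of_mem {S : Subgroup (GL ι₄ F)} (h1 : (-1 : GL ι₄ F) ∈ S) (h : ∀ i, e i ∈ S) : R ≤ S := by
  have hD := he.data
  have hinv : ∀ a ∈ R, a * a = 1 → a ∈ S := by
    intro a ha h2
    by_cases ha1 : a = 1
    · rw [ha1]; exact one_mem S
    by_cases ha1' : a = -1
    · rw [ha1']; exact h1
    obtain ⟨i, rfl | rfl⟩ := he.all a ha h2 ha1 ha1'
    · exact h i
    · rw [← neg_one_mul]; exact mul_mem h1 (h i)
  intro a ha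
  rcases hD.sq_cases ha with h2 | h2
  · exact hinv a ha h2
  by_cases hc : ∃ i, a * e i = -(e i * a)
  · obtain ⟨i, hi⟩ := hc
    have : a * e i ∈ S := hinv _ (mul_mem ha (he.mem i)) (by
      calc a * e i * (a * e i) = -(e i * a) * (a * e i) := by rw [← hi]
        _ = -(e i * (a * a) * e i) := by simp only [neg_mul, mul_assoc]
        _ = 1 := by rw [h2]; simp [he.sq i])
    simpa [mul_assoc, he.sq i] using mul_mem this (h i)
  · push Not at hc
    have hcom : ∀ i, a * e i = e i * a := fun i =>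
      (hD.commute_or_anti ha (he.mem i)).resolve_right (hc i)
    have hp : a * (e 0 * e 1) * (a * (e 0 * e 1)) = 1 := by
      have hx : (e 0 * e 1) * a = a * (e 0 * e 1) := by
        rw [mul_assoc, ← hcom, ← mul_assoc, ← hcom, mul_assoc]
      calc a * (e 0 * e 1) * (a * (e 0 * e 1)) = a * ((e 0 * e 1) * a) * (e 0 * e 1) := by
            simp only [mul_assoc]
        _ = (a * a) * ((e 0 * e 1) * (e 0 * e 1)) := by rw [hx]; simp only [mul_assoc]
        _ = 1 := by
            have h01 : e 0 * e 1 * (e 0 * e 1) = -1 := by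
              calc e 0 * e 1 * (e 0 * e 1) = e 0 * (e 1 * e 0) * e 1 := by simp only [mul_assoc]
                _ = -(e 0 * e 0 * (e 1 * e 1)) := by
                  rw [he.anti 1 0 (by decide)]; simp only [mul_neg, neg_mul, mul_assoc]
                _ = -1 := by rw [he.sq 0, he.sq 1, one_mul]
            rw [h2, h01]; simp
    have := mul_mem (hinv _ (mul_mem ha (mul_mem (he.mem 0) (he.mem 1))) hp) (mul_mem (h 1) (h 0))
    simpa [mul_assoc, ← mul_assoc (e 1) (e 1), he.sq 1, he.sq 0] using this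

theorem mem_normalizer {g : GL ι₄ F} (h : ∀ i, g * e i * g⁻¹ ∈ R) : g ∈ subgroupNormalizer R := by
  haveI := he.data.finite
  have hle : R ≤ R.comap (MulAut.conj g).toMonoidHom :=
    he.le_of_mem (by simpa using he.data.neg_one_mem) fun i => by simpa using h i
  let f : R → R := fun a => ⟨g * a * g⁻¹, by simpa using hle a.2⟩
  have hf : Function.Injective f := fun a b hab => by
    have := congrArg (fun x : R => (x : GL ι₄ F)) hab
    exact Subtype.ext (by simpa [f] using this)
  rw [subgroupNormalizer, Subgroup.mem_normalizer_iff]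
  intro a
  refine ⟨fun ha => (f ⟨a, ha⟩).2, fun ha => ?_⟩
  obtain ⟨b, hb⟩ := (Finite.injective_iff_surjective.mp hf) ⟨_, ha⟩
  have := congrArg (fun x : R => (x : GL ι₄ F)) hb
  simp [f] at this
  rw [← this]; exact b.2

/-- The kernel of `rho` is central. -/
theorem eq_or_neg_of_rho {g : spGL 2 F} (h : he.rho g = 1) :
    (g : GL ι₄ F) = 1 ∨ (g : GL ι₄ F) = -1 := by
  have hg : ∀ i, (g : GL ι₄ F) * e i * (g : GL ι₄ F)⁻¹ = e i := fun i => by
    apply Units.ext
    have := congrArg (fun x => Xv e (app x (ax i))) h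
    simp only [he.app_rho, he.Xv_conjVec g.2, app_one, Xv_ax] at this
    simpa using this
  have hcomm : R ≤ Subgroup.centralizer ({(g : GL ι₄ F)} : Set (GL ι₄ F)) :=
    he.le_of_mem (by rw [Subgroup.mem_centralizer_singleton_iff]; simp)
      fun i => by
        rw [Subgroup.mem_centralizer_singleton_iff]
        exact (mul_inv_eq_iff_eq_mul.mp (hg i)).symm
  obtain ⟨c, hc⟩ := he.data.scalar_of_commute (M := ((g : GL ι₄ F) : M₄)) fun a ha => by
    have := Subgroup.mem_centralizer_singleton_iff.mp (hcomm ha)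
    exact congrArg Units.val this.symm
  have h' := transpose_mul_of_mem g.2
  rw [hc, Matrix.transpose_smul, Matrix.transpose_one, Matrix.smul_mul, Matrix.one_mul, Matrix.mul_smul,
    Matrix.mul_one, smul_smul] at h'
  have h'' := congrFun (congrFun h' (Sum.inr 0)) (Sum.inl 0)
  simp [Matrix.J, Matrix.fromBlocks] at h''
  rcases sq_eq_one_iff.mp (show c ^ 2 = 1 by linear_combination h'') with rfl | rfl
  · left; exact Units.ext (by simp [hc])
  · right; exact Units.ext (by simp [hc])

end Frame5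

end Cfsg.Agent.Lib.SympExtraFour
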