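import Cfsg.Agent.Lib.SympExtraFour.Five

/-!
Elements of `SL₂` inside `Sp₄`, and the Sylow argument for order five.
-/

set_option autoImplicit false
set_option linter.style.haveILetI false

namespace Cfsg.Agent.Lib.SympExtraFour

open Cfsg Cfsg.Geo Matrix

variable {F : Type*} [Field F]

local notation "ι₄" => (Fin 2 ⊕ Fin 2)
local notation "M₂" => Matrix (Fin 2) (Fin 2) F

/-- A `2 × 2` matrix acting on the first hyperbolic plane. -/
def planeMat (M : M₂) : Matrix ι₄ ι₄ F :=
  Matrix.fromBlocks (diagonal ![M 0 0, 1]) (diagonal ![M 0 1, 0]) (diagonal ![M 1 0, 0]) (diagonal ![M 1 1, 1])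

theorem planeMat_one : planeMat (1 : M₂) = 1 := by
  ext (i | i) (j | j) <;> fin_cases i <;> fin_cases j <;> simp [planeMat]

theorem planeMat_mul (M N : M₂) : planeMat (M * N) = planeMat M * planeMat N := by
  rw [planeMat, planeMat, planeMat, Matrix.fromBlocks_multiply]
  simp only [diagonal_mul_diagonal, diagonal_add]
  congr 1 <;> rw [diagonal_eq_diagonal_iff] <;> intro i <;> fin_cases i <;>
    simp [Matrix.mul_apply, Fin.sum_univ_two]

theorem planeMat_trace (M : M₂) : (planeMat M).trace = M.trace + 2 := by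
  simp [planeMat, Matrix.trace, Fin.sum_univ_two]
  ring

theorem planeMat_transvection (c : F) (w : ι₄ → F) (hw : w (Sum.inr 0) = 0) :
    planeMat !![1, c; 0, 1] *ᵥ w = w := by
  ext (i | i) <;> fin_cases i <;>
    simp [planeMat, Matrix.mulVec, dotProduct, Fin.sum_univ_two, hw]

theorem planeMat_ne_smul {M : M₂} (hM : M ≠ 1) (z : F) : planeMat M ≠ z • (1 : Matrix ι₄ ι₄ F) := by
  intro h
  apply hM
  have h11 := congrFun (congrFun h (Sum.inl 1)) (Sum.inl 1)
  have h00 := congrFun (congrFun h (Sum.inl 0)) (Sum.inl 0)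
  have h01 := congrFun (congrFun h (Sum.inl 0)) (Sum.inr 0)
  have h10 := congrFun (congrFun h (Sum.inr 0)) (Sum.inl 0)
  have h22 := congrFun (congrFun h (Sum.inr 0)) (Sum.inr 0)
  simp [planeMat] at h11 h00 h01 h10 h22
  ext i j; fin_cases i <;> fin_cases j <;> simp [h00, h01, h10, h22, ← h11]

/-- An element of `Sp₄` from a matrix of determinant one. -/
theorem exists_plane (M : M₂) (hM : M.det = 1) : ∃ x ∈ spGL 2 F, (x : Matrix ι₄ ι₄ F) = planeMat M ∧
    ((x⁻¹ : GL ι₄ F) : Matrix ι₄ ι₄ F) = planeMat M.adjugate := by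
  have h1 : planeMat M * planeMat M.adjugate = 1 := by
    rw [← planeMat_mul, Matrix.mul_adjugate, hM, one_smul, planeMat_one]
  have h2 : planeMat M.adjugate * planeMat M = 1 := by
    rw [← planeMat_mul, Matrix.adjugate_mul, hM, one_smul, planeMat_one]
  let x : GL ι₄ F := ⟨planeMat M, planeMat M.adjugate, h1, h2⟩
  refine ⟨x, mem_of_transpose_mul ?_, rfl, rfl⟩
  show (planeMat M)ᵀ * Matrix.J (Fin 2) F * planeMat M = Matrix.J (Fin 2) F
  rw [Matrix.det_fin_two] at hM
  ext (i | i) (j | j) <;> fin_cases i <;> fin_cases j <;>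
    simp [planeMat, Matrix.J, Matrix.fromBlocks, Matrix.mul_apply, Matrix.transpose_apply, Fin.sum_univ_two] <;>
    first
      | linear_combination hM
      | linear_combination (-1 : F) * hM
      | ring

theorem planeMat_pow (M : M₂) (n : ℕ) : planeMat M ^ n = planeMat (M ^ n) := by
  induction n with
  | zero => rw [pow_zero, pow_zero, planeMat_one]
  | succ n ih => rw [pow_succ, pow_succ, planeMat_mul, ih]

/-- A matrix of determinant one and order five has trace a root of `a² + a - 1`. -/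
theorem trace_of_pow_five {M : M₂} (hdet : M.det = 1) (h5 : M ^ 5 = 1) (hne : M ≠ 1) :
    M.trace ^ 2 + M.trace - 1 = 0 := by
  set a := M.trace with ha
  rw [Matrix.det_fin_two] at hdet
  have hta : a = M 0 0 + M 1 1 := by simp [ha, Matrix.trace, Fin.sum_univ_two]
  have hsq : M * M = a • M - 1 := by
    ext i j; fin_cases i <;> fin_cases j <;>
      simp [Matrix.mul_apply, Fin.sum_univ_two, hta] <;>
      first
        | linear_combination hdet
        | linear_combination (-1 : F) * hdet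
        | ring
  have hpow : M ^ 5 = (a ^ 4 - 3 * a ^ 2 + 1) • M - (a ^ 3 - 2 * a) • (1 : M₂) := by
    have e3 : M * M * M = (a ^ 2 - 1) • M - a • (1 : M₂) := by
      rw [hsq, Matrix.sub_mul, Matrix.smul_mul, hsq, Matrix.one_mul, smul_sub, smul_smul]
      module
    have e4 : M * M * M * M = (a ^ 3 - 2 * a) • M - (a ^ 2 - 1) • (1 : M₂) := by
      rw [e3, Matrix.sub_mul, Matrix.smul_mul, hsq, Matrix.smul_mul, Matrix.one_mul, smul_sub, smul_smul]
      module
    have e5 : M ^ 5 = M * M * M * M * M := by simp only [pow_succ, pow_zero, one_mul]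
    rw [e5, e4, Matrix.sub_mul, Matrix.smul_mul, hsq, Matrix.smul_mul, Matrix.one_mul, smul_sub, smul_smul]
    module
  rw [hpow] at h5
  by_cases hu : a ^ 4 - 3 * a ^ 2 + 1 = 0
  · rw [hu, zero_smul, zero_sub, ← neg_smul] at h5
    have h := congrFun (congrFun h5 0) 0
    simp at h
    have hne1 : a - 1 ≠ 0 := by
      intro e
      have e' : a = 1 := sub_eq_zero.mp e
      rw [e'] at hu
      norm_num at hu
    refine (mul_eq_zero.mp (?_ : (a - 1) * (a ^ 2 + a - 1) = 0)).resolve_left hne1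
    linear_combination -h
  · exfalso
    set s := (a ^ 4 - 3 * a ^ 2 + 1)⁻¹ * (1 + (a ^ 3 - 2 * a)) with hs
    have hM : M = s • (1 : M₂) := by
      rw [sub_eq_iff_eq_add] at h5
      calc M = (a ^ 4 - 3 * a ^ 2 + 1)⁻¹ • ((a ^ 4 - 3 * a ^ 2 + 1) • M) := by
            rw [smul_smul, inv_mul_cancel₀ hu, one_smul]
        _ = s • (1 : M₂) := by rw [h5, hs, smul_add, smul_smul, mul_add, mul_one, add_smul]
    have hs2 : s ^ 2 = 1 := by
      rw [hM] at hdet
      simp at hdet
      linear_combination hdet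
    have hs5 : s ^ 5 = 1 := by
      have h : M ^ 5 = 1 := by rw [hpow, h5]
      rw [hM, _root_.smul_pow, one_pow] at h
      simpa using congrFun (congrFun h 0) 0
    apply hne
    have : s = 1 := by linear_combination hs5 - (s ^ 3 + s) * hs2
    rw [hM, this, one_smul]

theorem orderOf_two : orderOf ((2 : ℕ) : ZMod 5) = 4 := by
  haveI : Fact (Nat.Prime 2) := ⟨Nat.prime_two⟩
  exact orderOf_eq_prime_pow (p := 2) (n := 1) (by decide) (by decide)

theorem orderOf_three : orderOf ((3 : ℕ) : ZMod 5) = 4 := by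
  haveI : Fact (Nat.Prime 2) := ⟨Nat.prime_two⟩
  exact orderOf_eq_prime_pow (p := 2) (n := 1) (by decide) (by decide)

/-- Order five and multiplicative order of `p` below four: an element of `SL₂` of order five. -/
theorem exists_sl_five [Fintype F] {p : ℕ} [Fact p.Prime] (hF : Fintype.card F = p) (hp5 : p ≠ 5)
    (hord : orderOf (p : ZMod 5) ≠ 4) : ∃ M : M₂, M.det = 1 ∧ M ^ 5 = 1 ∧ M ≠ 1 := by
  classical
  haveI : Fact (Nat.Prime 5) := ⟨Nat.prime_five⟩
  have hp0 : (p : ZMod 5) ≠ 0 := by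
    rw [Ne, CharP.cast_eq_zero_iff (ZMod 5) 5]
    exact fun h => hp5 ((Nat.prime_dvd_prime_iff_eq Nat.prime_five (Fact.out : Nat.Prime p)).mp h).symm
  have hmod : p % 5 = 1 ∨ p % 5 = 4 := by
    have hlt := Nat.mod_lt p (by norm_num : 0 < 5)
    have hcast : (p : ZMod 5) = ((p % 5 : ℕ) : ZMod 5) := by rw [ZMod.natCast_mod]
    rw [hcast] at hord hp0
    interval_cases (p % 5)
    · exact absurd rfl hp0
    · exact Or.inl rfl
    · exact absurd orderOf_two hord
    · exact absurd orderOf_three hord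
    · exact Or.inr rfl
  rcases hmod with h1 | h4
  · obtain ⟨u, hu⟩ := exists_prime_orderOf_dvd_card' (G := Fˣ) 5 (by
      rw [Nat.card_units, Nat.card_eq_fintype_card, hF]; omega)
    refine ⟨!![(u : F), 0; 0, ((u⁻¹ : Fˣ) : F)], by simp [Matrix.det_fin_two], ?_, ?_⟩
    · have hd : (!![(u : F), 0; 0, ((u⁻¹ : Fˣ) : F)] : M₂) = diagonal ![(u : F), ((u⁻¹ : Fˣ) : F)] := by
        ext i j; fin_cases i <;> fin_cases j <;> simp
      have h5 : u ^ 5 = 1 := by rw [← hu, pow_orderOf_eq_one]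
      rw [hd, Matrix.diagonal_pow, ← Matrix.diagonal_one, diagonal_eq_diagonal_iff]
      intro i
      fin_cases i
      · simp [← Units.val_pow_eq_pow_val, h5]
      · simp [← Units.val_pow_eq_pow_val, inv_pow, h5]
    · intro h
      have := congrFun (congrFun h 0) 0
      simp at this
      rw [show u = 1 from Units.ext (by simpa using this)] at hu
      simp at hu
  · obtain ⟨g, hg⟩ := exists_prime_orderOf_dvd_card' (G := GL (Fin 2) F) 5 (by
      rw [Matrix.card_GL_field, hF, Fin.prod_univ_two]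
      simp only [Fin.val_zero, Fin.val_one, pow_zero, pow_one]
      refine Dvd.dvd.mul_right ?_ _
      have h2 : p ^ 2 % 5 = 1 := by rw [Nat.pow_mod, h4]
      omega)
    have h5 : g ^ 5 = 1 := by rw [← hg, pow_orderOf_eq_one]
    refine ⟨g, ?_, by rw [← Units.val_pow_eq_pow_val, h5, Units.val_one], ?_⟩
    · set d := (g : M₂).det with hd
      have hd5 : d ^ 5 = 1 := by rw [hd, ← Matrix.det_pow, ← Units.val_pow_eq_pow_val, h5]; simp
      have hd0 : d ≠ 0 := fun h => by simp [h] at hd5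
      have hdp : d ^ (p - 1) = 1 := by rw [← hF]; exact FiniteField.pow_card_sub_one_eq_one d hd0
      have hdvd := Nat.dvd_gcd (orderOf_dvd_of_pow_eq_one hd5) (orderOf_dvd_of_pow_eq_one hdp)
      have hcop : Nat.gcd 5 (p - 1) = 1 := by
        refine (Nat.Prime.coprime_iff_not_dvd Nat.prime_five).mpr ?_
        omega
      rw [hcop, Nat.dvd_one, orderOf_eq_one_iff] at hdvd
      exact hdvd
    · intro h
      have : g = 1 := Units.ext h
      rw [this, orderOf_one] at hg
      norm_num at hg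

/-- All elements of order five of `Sp₄` are conjugate to powers of one of them. -/
theorem exists_conj_pow [Fintype F] {p : ℕ} (hF : Fintype.card F = p) (h5 : (5 : F) ≠ 0)
    (hp : orderOf (p : ZMod 5) = 4) {x y : GL ι₄ F} (hx : x ∈ spGL 2 F) (hy : y ∈ spGL 2 F)
    (hx5 : orderOf x = 5) (hy5 : orderOf y = 5) :
    ∃ g ∈ spGL 2 F, g⁻¹ * x * g ∈ Subgroup.zpowers y := by
  classical
  haveI : Fact (Nat.Prime 5) := ⟨Nat.prime_five⟩
  have hcyc : ∀ a b : GL ι₄ F, Commute a b → orderOf a = 5 → orderOf b = 5 → a ∈ Subgroup.zpowers b := by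
    intro a b hab ha hb
    refine mem_zpowers_of_commute h5 hab (by rw [← hb, pow_orderOf_eq_one])
      (fun c hc1 hc5 _ v hv => fpf_of_order_four hF hp hc5 hc1 v hv) (by rw [← ha, pow_orderOf_eq_one]) ?_
    intro h
    rw [h, orderOf_one] at hb
    norm_num at hb
  let S := spGL 2 F
  let x' : S := ⟨x, hx⟩
  let y' : S := ⟨y, hy⟩
  have hx' : orderOf x' = 5 := by rw [← hx5]; exact (Subgroup.orderOf_coe x').symm
  have hy' : orderOf y' = 5 := by rw [← hy5]; exact (Subgroup.orderOf_coe y').symm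
  have hpx : IsPGroup 5 (Subgroup.zpowers x') := IsPGroup.of_card (n := 1) (by rw [Nat.card_zpowers, hx', pow_one])
  have hpy : IsPGroup 5 (Subgroup.zpowers y') := IsPGroup.of_card (n := 1) (by rw [Nat.card_zpowers, hy', pow_one])
  obtain ⟨P, hP⟩ := hpx.exists_le_sylow
  obtain ⟨Q, hQ⟩ := hpy.exists_le_sylow
  obtain ⟨s, hs⟩ := MulAction.exists_smul_eq S Q P
  have hxP : x' ∈ (P : Subgroup S) := hP (Subgroup.mem_zpowers x')
  have hyP : s * y' * s⁻¹ ∈ (P : Subgroup S) := by
    rw [← hs, Sylow.coe_subgroup_smul]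
    exact Subgroup.smul_mem_pointwise_smul y' (MulAut.conj s) _ (hQ (Subgroup.mem_zpowers y'))
  haveI : Nontrivial (P : Subgroup S) := by
    refine ⟨⟨⟨x', hxP⟩, 1, fun h => ?_⟩⟩
    have : x' = 1 := congrArg Subtype.val h
    rw [this, orderOf_one] at hx'
    norm_num at hx'
  haveI := IsPGroup.center_nontrivial P.2
  obtain ⟨c, hc⟩ : ∃ c : Subgroup.center (P : Subgroup S), orderOf c = 5 := by
    refine exists_prime_orderOf_dvd_card' 5 ?_
    obtain ⟨n, hn⟩ := IsPGroup.iff_card.mp (P.2.to_subgroup (Subgroup.center (P : Subgroup S)))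
    rcases Nat.eq_zero_or_pos n with rfl | hpos
    · rw [pow_zero] at hn
      exact absurd hn (ne_of_gt Finite.one_lt_card)
    · rw [hn]; exact dvd_pow_self 5 (by omega)
  have hcomm : ∀ w : S, w ∈ (P : Subgroup S) → Commute (((c : (P : Subgroup S)) : S) : GL ι₄ F) w := by
    intro w hw
    have := congrArg (fun v : (P : Subgroup S) => ((v : S) : GL ι₄ F)) (Subgroup.mem_center_iff.mp c.2 ⟨w, hw⟩)
    exact this.symm
  have hc5 : orderOf (((c : (P : Subgroup S)) : S) : GL ι₄ F) = 5 := by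
    rw [Subgroup.orderOf_coe, Subgroup.orderOf_coe, Subgroup.orderOf_coe, hc]
  have hy'' : orderOf (((s * y' * s⁻¹ : S)) : GL ι₄ F) = 5 := by
    rw [Subgroup.orderOf_coe]; exact (MulEquiv.orderOf_eq (MulAut.conj s) y').trans hy'
  have h1 := hcyc x _ (hcomm x' hxP).symm hx5 hc5
  have h2 := hcyc _ _ (hcomm _ hyP) hc5 hy''
  have h3 : x ∈ Subgroup.zpowers (((s * y' * s⁻¹ : S)) : GL ι₄ F) := Subgroup.zpowers_le.mpr h2 h1
  obtain ⟨i, hi⟩ := Subgroup.mem_zpowers_iff.mp h3
  refine ⟨(s : GL ι₄ F), s.2, Subgroup.mem_zpowers_iff.mpr ⟨i, ?_⟩⟩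
  rw [← hi]
  show y ^ i = (s : GL ι₄ F)⁻¹ * ((s : GL ι₄ F) * y * (s : GL ι₄ F)⁻¹) ^ i * (s : GL ι₄ F)
  rw [conj_zpow]
  group

end Cfsg.Agent.Lib.SympExtraFour
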